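import Groth.Agent.Lib.Hyper19.Sphere

/-! # A hypercovering of an object is a hypercovering of the final object of the localized site -/

set_option autoImplicit false
set_option backward.isDefEq.respectTransparency false
universe u

open CategoryTheory CategoryTheory.Limits Opposite Simplicial

namespace GrothLib.Hyper19

section

variable {C : Type u} [SmallCategory C] {J : GrothendieckTopology C}

/-- Two sections of a product agree if their components agree. -/
lemma prod_sec_ext {F G : Cᵒᵖ ⥤ Type u} {U : C} {z z' : (F ⨯ G).obj (op U)}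
    (h1 : (prod.fst : F ⨯ G ⟶ F).app (op U) z = (prod.fst : F ⨯ G ⟶ F).app (op U) z')
    (h2 : (prod.snd : F ⨯ G ⟶ G).app (op U) z = (prod.snd : F ⨯ G ⟶ G).app (op U) z') : z = z' := by
  apply yonedaEquiv.symm.injective
  refine prod.hom_ext (yonedaEquiv.injective ?_) (yonedaEquiv.injective ?_) <;>
    rw [yonedaEquiv_comp, yonedaEquiv_comp, Equiv.apply_symm_apply, Equiv.apply_symm_apply]
  · exact h1
  · exact h2

/-- A covering of semi-representable objects is locally surjective on presheaves. -/
lemma isLocallySurjective_of_isSRCovering {K L : FormalCoproduct.{u} C} (f : K ⟶ L)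
    (hf : Hyper.IsSRCovering J f) : Presheaf.IsLocallySurjective J (FormalCoproduct.yoneda.map f) where
  imageSieve_mem {U} s := by
    obtain ⟨⟨j, g⟩, rfl⟩ := (bijective_mkSec L U).2 s
    refine J.superset_covering (fun V h hh => ?_) (J.pullback_stable g (hf j))
    obtain ⟨W, k, _, ⟨⟨i, hi⟩⟩, hk⟩ := hh
    subst hi
    refine ⟨mkSec K i k, (map_mkSec f i k).trans (Eq.trans ?_ (rst_mkSec L h (f.f i) g).symm)⟩
    have : k ≫ f.φ i = h ≫ g := by simpa using hk
    rw [this]

end

variable {C : Type u} [SmallCategory C] (J : GrothendieckTopology C) (X : C)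
  (K : SimplicialObject (FormalCoproduct.{u} (Over X)))
  [∀ (n : ℕ) (F : (SimplexCategory.Truncated n)ᵒᵖ ⥤ FormalCoproduct.{u} (Over X)),
    (SimplexCategory.Truncated.inclusion n).op.HasRightKanExtension F]

theorem isHypercoveringSite_over (hK : Hyper.IsHypercovering J X K) :
    Hyper.IsHypercoveringSite (J.over X) K := by
  refine ⟨⟨fun {V} s => ?_⟩, ⟨fun {V} z => ?_⟩, fun n _ => isLocallySurjective_of_isSRCovering _ (hK.2 n)⟩
  · rw [GrothendieckTopology.mem_over_iff]
    refine J.superset_covering (fun W h hh => ?_) (J.pullback_stable V.hom hK.1)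
    obtain ⟨W', k, m, ⟨i⟩, hk⟩ := hh
    rw [Sieve.overEquiv_iff]
    refine ⟨mkSec (K.obj (op (SimplexCategory.mk 0))) i (Over.homMk k hk), ?_⟩
    apply yonedaEquiv.symm.injective
    exact terminal.hom_ext _ _
  · let K0 := K.obj (op ⦋0⦌)
    let b := (prod.fst : fy K0 ⨯ fy K0 ⟶ _).app (op V) z
    let a := (prod.snd : fy K0 ⨯ fy K0 ⟶ _).app (op V) z
    obtain ⟨S, hS, h⟩ := exists_fill_of_family K 0 (isLocallySurjective_of_isSRCovering _ (hK.2 0)) V
      (fun {k} _ θ => secHom K0 V (if θ.toOrderHom 0 = (0 : Fin 2) then b else a) ≫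
        K.map (SimplexCategory.const k ⦋0⦌ 0).op)
      (fun {k l} hk hl ψ θ => by
        have : Subsingleton (Fin (k.len + 1)) := Fin.subsingleton_iff_le_one.2 (by omega)
        have h0 : (ψ ≫ θ).toOrderHom 0 = θ.toOrderHom 0 := congrArg θ.toOrderHom (Subsingleton.elim _ _)
        rw [h0, Category.assoc]
        refine congrArg (secHom K0 V _ ≫ ·) ?_
        rw [← K.map_comp, ← op_comp]
        exact congrArg (fun t : l ⟶ ⦋0⦌ => K.map t.op)
          (SimplexCategory.Hom.ext _ _ (OrderHom.ext _ _ (funext fun _ => Subsingleton.elim (α := Fin 1) _ _))))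
    refine (J.over X).superset_covering (fun W g hg => ?_) hS
    obtain ⟨x, hx⟩ := h g hg
    have hid : SimplexCategory.const ⦋0⦌ ⦋0⦌ 0 = 𝟙 ⦋0⦌ :=
      SimplexCategory.Hom.ext _ _ (OrderHom.ext _ _ (funext fun _ => Subsingleton.elim (α := Fin 1) _ _))
    have hface : ∀ (i : Fin 2) (c : (fy K0).obj (op V)),
        (if (SimplexCategory.δ i).toOrderHom 0 = (0 : Fin 2) then b else a) = c →
        (FormalCoproduct.yoneda.map (K.δ i)).app (op W) x = (fy K0).map g.op c := by
      intro i c hc
      apply (secHom K0 W).injective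
      refine (hx i).trans ?_
      rw [hc, hid, op_id, K.map_id, Category.comp_id]
      exact (secHom_rst K0 g c).symm
    refine ⟨x, prod_sec_ext ?_ ?_⟩
    · refine ((congrArg (fun t : fy (K.obj (op ⦋1⦌)) ⟶ fy K0 => t.app (op W) x)
        (prod.lift_fst (FormalCoproduct.yoneda.map (K.δ (1 : Fin 2))) (FormalCoproduct.yoneda.map (K.δ (0 : Fin 2))))).trans ?_)
      exact (hface 1 b (if_pos rfl)).trans (NatTrans.naturality_apply (prod.fst : fy K0 ⨯ fy K0 ⟶ _) g.op z).symm
    · refine ((congrArg (fun t : fy (K.obj (op ⦋1⦌)) ⟶ fy K0 => t.app (op W) x)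
        (prod.lift_snd (FormalCoproduct.yoneda.map (K.δ (1 : Fin 2))) (FormalCoproduct.yoneda.map (K.δ (0 : Fin 2))))).trans ?_)
      exact (hface 0 a (if_neg (fun h => absurd (show (1 : Fin 2) = 0 from h) (by decide)))).trans (NatTrans.naturality_apply (prod.snd : fy K0 ⨯ fy K0 ⟶ _) g.op z).symm

end GrothLib.Hyper19
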