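import Groth.Agent.Lib.Hyper19.SS
import Groth.Agent.Lib.Hyper19.Over
import Groth.Agent.Lib.SheafCoh.OverLan
import Groth.Agent.Lib.GrothSS.Acyclic

/-! # Hypercoverings compute the cohomology of acyclic sheaves -/

set_option autoImplicit false
set_option backward.isDefEq.respectTransparency false
universe u

open CategoryTheory CategoryTheory.Limits Opposite Simplicial

namespace GrothLib.Hyper19

variable {C : Type u} [SmallCategory C] (J : GrothendieckTopology C) (X : C)
  (K : SimplicialObject (FormalCoproduct.{u} (Over X)))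

/-- Restriction to the localized site. -/
noncomputable abbrev resOver : Sheaf J AddCommGrpCat.{u} ⥤ Sheaf (J.over X) AddCommGrpCat.{u} :=
  (Over.forget X).sheafPushforwardContinuous AddCommGrpCat.{u} (J.over X) J

/-- The Cech complex of a sheaf on the whole site. -/
noncomputable abbrev cxOver : Sheaf J AddCommGrpCat.{u} ⥤ CochainComplex AddCommGrpCat.{u} ℕ :=
  resOver J X ⋙ sheafToPresheaf (J.over X) AddCommGrpCat.{u} ⋙ cxK K

theorem shortExact_cxOver (T : ShortComplex (Sheaf J AddCommGrpCat.{u}))
    (h : ∀ U : C, (T.map (GrothSS.secAt J U)).ShortExact) : (T.map (cxOver J X K)).ShortExact := by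
  let E := resOver J X ⋙ sheafToPresheaf (J.over X) AddCommGrpCat.{u}
  have hE : ∀ V, ((T.map E).map ((evaluation (Over X)ᵒᵖ AddCommGrpCat.{u}).obj V)).ShortExact :=
    fun V => h V.unop.left
  have hm : Mono (T.map E).f :=
    @NatTrans.mono_of_mono_app _ _ _ _ _ _ _ fun V => (hE V).mono_f
  have he : Epi (T.map E).g :=
    @NatTrans.epi_of_epi_app _ _ _ _ _ _ _ fun V => (hE V).epi_g
  exact cxK_shortExact K (T.map E)
    { exact := (T.map E).exact_iff_isZero_homology.2 (Functor.isZero _ fun V =>
        (((T.map E).map ((evaluation (Over X)ᵒᵖ AddCommGrpCat.{u}).obj V)).exact_iff_isZero_homology.1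
          (hE V).exact).of_iso ((T.map E).mapHomologyIso ((evaluation (Over X)ᵒᵖ AddCommGrpCat.{u}).obj V)).symm)
      mono_f := hm
      epi_g := he }

variable [∀ (n : ℕ) (F : (SimplexCategory.Truncated n)ᵒᵖ ⥤ Limits.FormalCoproduct.{u} (Over X)),
    (SimplexCategory.Truncated.inclusion n).op.HasRightKanExtension F] {J X K}

/-- Degree zero cohomology preserves surjectivity on sections over `X`. -/
lemma epi_homologyMap_zero (hK : Hyper.IsHypercovering J X K) {F G : Sheaf J AddCommGrpCat.{u}} (g : F ⟶ G)
    (hg : Function.Surjective (g.hom.app (op X))) :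
    Epi (HomologicalComplex.homologyMap ((cxOver J X K).map g) 0) := by
  have hP := fillable_of_isHypercoveringSite (isHypercoveringSite_over J X K hK)
  have hT : IsTerminal (Over.mk (𝟙 X)) := Over.mkIdTerminal
  let adj := constantSheafAdj (J.over X) AddCommGrpCat.{u} hT
  have hepi : Epi ((GrothSS.homFun (zSheaf (J.over X))).map ((resOver J X).map g)) := by
    rw [AddCommGrpCat.epi_iff_surjective]
    intro (θ : zSheaf (J.over X) ⟶ (resOver J X).obj G)
    let b : AddCommGrpCat.of (ULift.{u} ℤ) ⟶ G.obj.obj (op X) := adj.homEquiv _ _ θ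
    obtain ⟨t, ht⟩ := hg (b ⟨1⟩)
    let a : AddCommGrpCat.of (ULift.{u} ℤ) ⟶ F.obj.obj (op X) :=
      AddCommGrpCat.ofHom ((zmultiplesHom _ t).comp AddEquiv.ulift.toAddMonoidHom)
    refine ⟨(adj.homEquiv _ ((resOver J X).obj F)).symm a, ?_⟩
    change (adj.homEquiv _ _).symm a ≫ (resOver J X).map g = θ
    apply (adj.homEquiv _ _).injective
    rw [adj.homEquiv_naturality_right, Equiv.apply_symm_apply]
    refine ConcreteCategory.hom_ext (X := AddCommGrpCat.of (ULift.{u} ℤ)) (Y := G.obj.obj (op X)) _ _ fun n => ?_
    change g.hom.app (op X) (n.down • t) = b n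
    rw [map_zsmul, ht, ← map_zsmul]
    exact congrArg b (ULift.ext _ _ (by simp))
  have hnat := (zCechIso hP).hom.naturality ((resOver J X).map g)
  have : Epi ((GrothSS.homFun (zSheaf (J.over X))).map ((resOver J X).map g) ≫
      (zCechIso hP).hom.app ((resOver J X).obj G)) := epi_comp _ _
  rw [hnat] at this
  exact @epi_of_epi _ _ _ _ _ ((zCechIso hP).hom.app ((resOver J X).obj F)) _ this

theorem isZero_cechH_of_acyclic (hK : Hyper.IsHypercovering J X K) :
    ∀ (p : ℕ) (F : Sheaf J AddCommGrpCat.{u}), (∀ U : C, GrothSS.IsAcyclicObj (GrothSS.secAt J U) F) →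
      IsZero (((cxOver J X K).obj F).homology (p + 1)) := by
  intro p
  induction p with
  | zero =>
    intro F hF
    let T : ShortComplex (Sheaf J AddCommGrpCat.{u}) :=
      ShortComplex.mk (Injective.ι F) (cokernel.π (Injective.ι F)) (cokernel.condition _)
    have hT : T.ShortExact := { exact := ShortComplex.exact_cokernel _ }
    have hS := fun U => HomGamma.shortExact_map_of_isZero (GrothSS.secAt J U) hT (hF U 0)
    have hC := shortExact_cxOver J X K T hS
    have := SheafCoh.injective_over X J (Injective.under F)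
    have hI : IsZero (((cxOver J X K).obj T.X₂).homology 1) := isZero_cech_homology _ K
      (fillable_of_isHypercoveringSite (isHypercoveringSite_over J X K hK)) 0
    have : Epi (HomologicalComplex.homologyMap ((cxOver J X K).map T.g) 0) :=
      epi_homologyMap_zero hK T.g ((AddCommGrpCat.epi_iff_surjective _).1 (hS X).epi_g)
    have h0 : hC.δ 0 1 rfl = 0 := by
      rw [← cancel_epi (HomologicalComplex.homologyMap ((cxOver J X K).map T.g) 0), comp_zero]
      exact hC.comp_δ 0 1 rfl
    exact (hC.homology_exact₁ 0 1 rfl).isZero_of_both_zeros h0 (hI.eq_of_tgt _ _)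
  | succ p ih =>
    intro F hF
    let T : ShortComplex (Sheaf J AddCommGrpCat.{u}) :=
      ShortComplex.mk (Injective.ι F) (cokernel.π (Injective.ι F)) (cokernel.condition _)
    have hT : T.ShortExact := { exact := ShortComplex.exact_cokernel _ }
    have hS := fun U => HomGamma.shortExact_map_of_isZero (GrothSS.secAt J U) hT (hF U 0)
    have hC := shortExact_cxOver J X K T hS
    have := SheafCoh.injective_over X J (Injective.under F)
    have hI : IsZero (((cxOver J X K).obj T.X₂).homology (p + 1 + 1)) := isZero_cech_homology _ K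
      (fillable_of_isHypercoveringSite (isHypercoveringSite_over J X K hK)) (p + 1)
    have hQ : IsZero (((cxOver J X K).obj T.X₃).homology (p + 1)) := ih T.X₃ fun U k =>
      GrothSS.isZero_rightDerived_X₃ (GrothSS.secAt J U) k T hT (hF U (k + 1))
        (GrothSS.isAcyclicObj_of_injective (GrothSS.secAt J U) (Injective.under F) k)
    exact (hC.homology_exact₁ (p + 1) (p + 1 + 1) rfl).isZero_of_both_zeros
      (hQ.eq_of_src _ _) (hI.eq_of_tgt _ _)

end GrothLib.Hyper19
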