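import Groth.Agent.Lib.Hyper19.Homology
import Groth.Prelude.Def_Hyper
import Mathlib.CategoryTheory.Adjunction.Additive

/-! # The Cech complex of a sheaf is the complex of maps out of the free chain complex -/

set_option autoImplicit false
set_option backward.isDefEq.respectTransparency false
universe u

open CategoryTheory CategoryTheory.Limits Opposite Simplicial

namespace GrothLib.Hyper19

variable {C : Type u} [SmallCategory C] (J : GrothendieckTopology C)

/-- The free sheaf on a formal coproduct. -/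
noncomputable abbrev freeSh : FormalCoproduct.{u} C ⥤ Sheaf J AddCommGrpCat.{u} :=
  (FormalCoproduct.yoneda ⋙ freeP) ⋙ presheafToSheaf J AddCommGrpCat.{u}

variable {J} (G : Sheaf J AddCommGrpCat.{u})

/-- The values of a presheaf on a formal coproduct. -/
noncomputable abbrev vals (X : FormalCoproduct.{u} C) : AddCommGrpCat.{u} :=
  ∏ᶜ fun i : X.I => G.obj.obj (op (X.obj i))

lemma vals_ext {X : FormalCoproduct.{u} C} {φ φ' : vals G X}
    (h : ∀ i, Pi.π (fun i : X.I => G.obj.obj (op (X.obj i))) i φ = Pi.π (fun i : X.I => G.obj.obj (op (X.obj i))) i φ') :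
    φ = φ' :=
  (Concrete.productEquiv (fun i : X.I => G.obj.obj (op (X.obj i)))).injective (funext fun i => by
    rw [Concrete.productEquiv_apply_apply, Concrete.productEquiv_apply_apply]; exact h i)

/-- The presheaf morphism of a morphism out of a free sheaf. -/
noncomputable abbrev adjHom (P : Cᵒᵖ ⥤ AddCommGrpCat.{u}) :
    ((presheafToSheaf J AddCommGrpCat.{u}).obj P ⟶ G) ≃+ (P ⟶ G.obj) :=
  (sheafificationAdjunction J AddCommGrpCat.{u}).homAddEquiv P G

/-- Evaluation of a morphism out of a free sheaf at the tautological sections. -/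
noncomputable def ev (X : FormalCoproduct.{u} C) : ((freeSh J).obj X ⟶ G) →+ vals G X where
  toFun θ := (Concrete.productEquiv (fun i : X.I => G.obj.obj (op (X.obj i)))).symm fun i =>
    (adjHom G _ θ).app (op (X.obj i)) (FreeAbelianGroup.of (mkSec X i (𝟙 _)))
  map_zero' := vals_ext G fun i => by
    rw [Concrete.productEquiv_symm_apply_π, map_zero, map_zero]; rfl
  map_add' θ θ' := vals_ext G fun i => by
    rw [map_add, map_add, Concrete.productEquiv_symm_apply_π, Concrete.productEquiv_symm_apply_π,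
      Concrete.productEquiv_symm_apply_π]
    rfl

lemma π_ev (X : FormalCoproduct.{u} C) (θ : (freeSh J).obj X ⟶ G) (i : X.I) :
    Pi.π (fun i : X.I => G.obj.obj (op (X.obj i))) i (ev G X θ) =
      (adjHom G _ θ).app (op (X.obj i)) (FreeAbelianGroup.of (mkSec X i (𝟙 _))) :=
  Concrete.productEquiv_symm_apply_π (fun i : X.I => G.obj.obj (op (X.obj i))) _ i

lemma app_of_mkSec {X : FormalCoproduct.{u} C} (θ : freeP.obj (fy X) ⟶ G.obj) {U : C} (i : X.I) (f : U ⟶ X.obj i) :
    θ.app (op U) (FreeAbelianGroup.of (mkSec X i f)) =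
      G.obj.map f.op (θ.app (op (X.obj i)) (FreeAbelianGroup.of (mkSec X i (𝟙 _)))) := by
  refine Eq.trans ?_ (NatTrans.naturality_apply θ f.op (FreeAbelianGroup.of (mkSec X i (𝟙 _))))
  refine congrArg (θ.app (op U)) ?_
  refine Eq.trans ?_ (FreeAbelianGroup.map_of_apply (f := fun s => (fy X).map f.op s) _).symm
  exact congrArg FreeAbelianGroup.of ((rst_mkSec X f i (𝟙 _)).trans (by rw [Category.comp_id])).symm

lemma ev_bijective (X : FormalCoproduct.{u} C) : Function.Bijective (ev G X) := by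
  refine ⟨(injective_iff_map_eq_zero _).2 fun θ h => ?_, fun φ => ?_⟩
  · apply (adjHom G _).injective
    rw [map_zero]
    refine NatTrans.ext (funext fun U => ?_)
    obtain ⟨U⟩ := U
    refine AddCommGrpCat.hom_ext (FreeAbelianGroup.lift_ext _ _ fun s => ?_)
    obtain ⟨⟨i, f⟩, rfl⟩ := (bijective_mkSec X U).2 s
    refine (app_of_mkSec G (adjHom G _ θ) i f).trans ?_
    refine (congrArg (G.obj.map f.op) ((π_ev G X θ i).symm.trans
      ((congrArg (Pi.π (fun i : X.I => G.obj.obj (op (X.obj i))) i) h).trans (map_zero _)))).trans ?_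
    exact map_zero _
  · let val (U : C) (a : Σ i : X.I, (U ⟶ X.obj i)) : G.obj.obj (op U) :=
      G.obj.map a.2.op (Pi.π (fun i : X.I => G.obj.obj (op (X.obj i))) a.1 φ)
    let c (U : C) (s : (fy X).obj (op U)) : G.obj.obj (op U) :=
      val U ((Equiv.ofBijective _ (bijective_mkSec X U)).symm s)
    have hc : ∀ (U : C) (i : X.I) (f : U ⟶ X.obj i), c U (mkSec X i f) =
        G.obj.map f.op (Pi.π (fun i : X.I => G.obj.obj (op (X.obj i))) i φ) := fun U i f =>
      congrArg (val U) ((Equiv.ofBijective _ (bijective_mkSec X U)).symm_apply_apply ⟨i, f⟩)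
    let θ : freeP.obj (fy X) ⟶ G.obj :=
      { app := fun U => AddCommGrpCat.ofHom (FreeAbelianGroup.lift (c U.unop))
        naturality := fun U V g => by
          obtain ⟨U⟩ := U
          obtain ⟨V⟩ := V
          obtain ⟨g, rfl⟩ : ∃ g' : V ⟶ U, g'.op = g := ⟨g.unop, rfl⟩
          refine AddCommGrpCat.hom_ext (FreeAbelianGroup.lift_ext _ _ fun s => ?_)
          obtain ⟨⟨i, f⟩, rfl⟩ := (bijective_mkSec X U).2 s
          change FreeAbelianGroup.lift (c V) (FreeAbelianGroup.map (fun s => (fy X).map g.op s) (FreeAbelianGroup.of (mkSec X i f))) =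
            G.obj.map g.op (FreeAbelianGroup.lift (c U) (FreeAbelianGroup.of (mkSec X i f)))
          rw [FreeAbelianGroup.map_of_apply, rst_mkSec]
          simp only [FreeAbelianGroup.lift_apply_of]
          rw [hc, hc, op_comp, Functor.map_comp]
          rfl }
    refine ⟨(adjHom G _).symm θ, vals_ext G fun i => ?_⟩
    rw [π_ev, AddEquiv.apply_symm_apply]
    change FreeAbelianGroup.lift (c (X.obj i)) (FreeAbelianGroup.of (mkSec X i (𝟙 _))) = _
    rw [FreeAbelianGroup.lift_apply_of, hc, op_id, CategoryTheory.Functor.map_id]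
    rfl

lemma ev_naturality {X Y : FormalCoproduct.{u} C} (h : X ⟶ Y) (θ : (freeSh J).obj Y ⟶ G) :
    ((FormalCoproduct.evalOp.{u} C AddCommGrpCat.{u}).obj G.obj).map h.op (ev G Y θ) =
      ev G X ((freeSh J).map h ≫ θ) := by
  refine vals_ext G fun i => ?_
  rw [π_ev]
  refine (congrArg (fun t : vals G Y ⟶ G.obj.obj (op (X.obj i)) => t (ev G Y θ))
    (Pi.lift_π (fun i => Pi.π (fun j : Y.I => G.obj.obj (op (Y.obj j))) (h.f i) ≫ G.obj.map (h.φ i).op) i)).trans ?_
  refine (congrArg (G.obj.map (h.φ i).op) (π_ev G Y θ (h.f i))).trans ?_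
  refine (app_of_mkSec G (adjHom G _ θ) (h.f i) (h.φ i)).symm.trans ?_
  have h1 : adjHom G _ ((freeSh J).map h ≫ θ) = freeP.map (FormalCoproduct.yoneda.map h) ≫ adjHom G _ θ :=
    (sheafificationAdjunction J AddCommGrpCat.{u}).homEquiv_naturality_left _ θ
  rw [h1]
  change _ = (adjHom G _ θ).app (op (X.obj i))
    (FreeAbelianGroup.map (fun s => (FormalCoproduct.yoneda.map h).app _ s) (FreeAbelianGroup.of (mkSec X i (𝟙 _))))
  rw [FreeAbelianGroup.map_of_apply, map_mkSec, Category.id_comp]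
  rfl

variable (K : SimplicialObject (FormalCoproduct.{u} C))

/-- Cochains are morphisms out of the chains. -/
noncomputable def evEquiv (n : ℕ) :
    ((scx J (psh K)).X n ⟶ G) ≃+ (Hyper.cechCxSite K G.obj).X n :=
  AddEquiv.ofBijective (ev G (K.obj (op ⦋n⦌))) (ev_bijective G _)

lemma evEquiv_d (n : ℕ) (θ : (scx J (psh K)).X n ⟶ G) :
    (Hyper.cechCxSite K G.obj).d n (n + 1) (evEquiv G K n θ) =
      evEquiv G K (n + 1) ((scx J (psh K)).d (n + 1) n ≫ θ) := by
  let cos := (FormalCoproduct.cosimplicialObjectFunctor K).obj G.obj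
  have hd : (Hyper.cechCxSite K G.obj).d n (n + 1) =
      ∑ i : Fin (n + 2), (-1 : ℤ) ^ (i : ℕ) • cos.δ i := by
    simp [cos, FormalCoproduct.cochainComplexFunctor, AlgebraicTopology.alternatingCofaceMapComplex,
      AlgebraicTopology.AlternatingCofaceMapComplex.obj, AlgebraicTopology.AlternatingCofaceMapComplex.objD]
  have hδ : (scx J (psh K)).d (n + 1) n =
      ∑ i : Fin (n + 2), (-1 : ℤ) ^ (i : ℕ) • (freeSh J).map (K.δ i) :=
    AlgebraicTopology.alternatingFaceMapComplex_obj_d _ n
  rw [hd, hδ]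
  erw [hom_sum_apply]
  rw [Preadditive.sum_comp]
  erw [map_sum (ev G (K.obj (op ⦋n + 1⦌)))]
  refine Finset.sum_congr rfl fun i _ => ?_
  rw [Preadditive.zsmul_comp, map_zsmul]
  exact congrArg (fun t : vals G (K.obj (op ⦋n + 1⦌)) => (-1 : ℤ) ^ (i : ℕ) • t) (ev_naturality G (K.δ i) θ)

theorem isZero_cech_homology [Injective G] (hP : Fillable J (psh K)) (p : ℕ) :
    IsZero ((Hyper.cechCxSite K G.obj).homology (p + 1)) := by
  rw [← HomologicalComplex.exactAt_iff_isZero_homology,
    HomologicalComplex.exactAt_iff' _ p (p + 1) (p + 2) (by simp) (by simp), ShortComplex.ab_exact_iff]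
  intro φ hφ
  obtain ⟨θ, rfl⟩ := (evEquiv G K (p + 1)).surjective φ
  have h0 : (scx J (psh K)).d (p + 2) (p + 1) ≫ θ = 0 :=
    (evEquiv G K (p + 2)).map_eq_zero_iff.1 ((evEquiv_d G K (p + 1) θ).symm.trans hφ)
  have hex : ((scx J (psh K)).sc' (p + 2) (p + 1) p).Exact := by
    rw [← HomologicalComplex.exactAt_iff' _ (p + 2) (p + 1) p (by simp) (by simp),
      HomologicalComplex.exactAt_iff_isZero_homology]
    exact isZero_scx_homology hP p
  refine ⟨evEquiv G K p (hex.descToInjective θ h0), (evEquiv_d G K p _).trans ?_⟩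
  exact congrArg (evEquiv G K (p + 1)) (hex.comp_descToInjective θ h0)

/-- Precomposition with an isomorphism. -/
noncomputable def precompEquiv {A B : Sheaf J AddCommGrpCat.{u}} (e : A ≅ B) : (B ⟶ G) ≃+ (A ⟶ G) where
  toFun f := e.hom ≫ f
  invFun f := e.inv ≫ f
  left_inv f := e.inv_hom_id_assoc f
  right_inv f := e.hom_inv_id_assoc f
  map_add' f g := Preadditive.comp_add _ _ _ _ f g

/-- Morphisms killing a differential are morphisms out of the opcycles. -/
noncomputable def descEquiv (L : ChainComplex (Sheaf J AddCommGrpCat.{u}) ℕ) :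
    (L.opcycles 0 ⟶ G) ≃+ AddMonoidHom.ker (Preadditive.leftComp G (L.d 1 0)) where
  toFun f := ⟨L.pOpcycles 0 ≫ f, (L.d_pOpcycles_assoc 1 0 f).trans zero_comp⟩
  invFun θ := L.descOpcycles θ.1 1 (by simp) θ.2
  left_inv f := by
    rw [← cancel_epi (L.pOpcycles 0), HomologicalComplex.p_descOpcycles]
  right_inv θ := Subtype.ext (HomologicalComplex.p_descOpcycles _ _ _ _ _)
  map_add' f g := Subtype.ext (Preadditive.comp_add _ _ _ _ f g)

/-- Morphisms out of the constant sheaf are global sections. -/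
noncomputable def constEquiv (P : Cᵒᵖ ⥤ AddCommGrpCat.{u}) :
    ((Functor.const Cᵒᵖ).obj (AddCommGrpCat.free.{u}.obj PUnit.{u + 1}) ⟶ P) ≃+ (limit P : AddCommGrpCat.{u}) where
  toFun f := limit.lift P ⟨_, f⟩ (FreeAbelianGroup.of PUnit.unit)
  invFun v := ((limit.cone P).extend
    (AddCommGrpCat.ofHom (FreeAbelianGroup.lift fun _ : PUnit.{u + 1} => v) :
      AddCommGrpCat.free.{u}.obj PUnit.{u + 1} ⟶ limit P)).π
  left_inv f := by
    refine NatTrans.ext (funext fun U => AddCommGrpCat.hom_ext (FreeAbelianGroup.lift_ext _ _ fun a => ?_))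
    change limit.π P U (FreeAbelianGroup.lift (fun _ => limit.lift P ⟨_, f⟩ (FreeAbelianGroup.of PUnit.unit)) (FreeAbelianGroup.of a)) = _
    rw [FreeAbelianGroup.lift_apply_of]
    exact congrArg (fun t : AddCommGrpCat.free.{u}.obj PUnit.{u + 1} ⟶ P.obj U => t (FreeAbelianGroup.of PUnit.unit))
      (limit.lift_π ⟨_, f⟩ U)
  right_inv v := by
    refine Concrete.limit_ext _ _ _ fun U => ?_
    refine (congrArg (fun t : AddCommGrpCat.free.{u}.obj PUnit.{u + 1} ⟶ P.obj U => t (FreeAbelianGroup.of PUnit.unit))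
      (limit.lift_π ⟨_, ((limit.cone P).extend
        (AddCommGrpCat.ofHom (FreeAbelianGroup.lift fun _ : PUnit.{u + 1} => v) :
          AddCommGrpCat.free.{u}.obj PUnit.{u + 1} ⟶ limit P)).π⟩ U)).trans ?_
    change limit.π P U (FreeAbelianGroup.lift (fun _ => v) (FreeAbelianGroup.of PUnit.unit)) = _
    rw [FreeAbelianGroup.lift_apply_of]
  map_add' f g := by
    refine Concrete.limit_ext _ _ _ fun U => ?_
    rw [map_add]
    refine (congrArg (fun t : AddCommGrpCat.free.{u}.obj PUnit.{u + 1} ⟶ P.obj U => t (FreeAbelianGroup.of PUnit.unit))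
      (limit.lift_π ⟨_, f + g⟩ U)).trans ?_
    exact congrArg₂ (· + ·)
      (congrArg (fun t : AddCommGrpCat.free.{u}.obj PUnit.{u + 1} ⟶ P.obj U => t (FreeAbelianGroup.of PUnit.unit))
        (limit.lift_π ⟨_, f⟩ U)).symm
      (congrArg (fun t : AddCommGrpCat.free.{u}.obj PUnit.{u + 1} ⟶ P.obj U => t (FreeAbelianGroup.of PUnit.unit))
        (limit.lift_π ⟨_, g⟩ U)).symm

/-- The zeroth Cech cohomology is the group of global sections. -/
noncomputable def cechHomologyZeroIso (hP : Fillable J (psh K)) :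
    (Hyper.cechCxSite K G.obj).homology 0 ≅ limit G.obj :=
  let L := scx J (psh K)
  let e1 : AddMonoidHom.ker (Preadditive.leftComp G (L.d 1 0)) ≃+ (limit G.obj : AddCommGrpCat.{u}) :=
    (descEquiv G L).symm.trans <| (precompEquiv G ((scxHomologyZeroIso hP).symm ≪≫ L.isoHomologyι₀)).trans <|
      (adjHom G _).trans (constEquiv G.obj)
  let e2 : AddMonoidHom.ker (Preadditive.leftComp G (L.d 1 0)) ≃+
      AddMonoidHom.ker ((Hyper.cechCxSite K G.obj).d 0 1).hom :=
    { toFun := fun θ => ⟨evEquiv G K 0 θ.1, (evEquiv_d G K 0 θ.1).trans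
        ((congrArg (evEquiv G K 1) θ.2).trans (map_zero _))⟩
      invFun := fun φ => ⟨(evEquiv G K 0).symm φ.1, (evEquiv G K 1).map_eq_zero_iff.1
        (((evEquiv_d G K 0 _).symm.trans (by rw [AddEquiv.apply_symm_apply])).trans φ.2)⟩
      left_inv := fun θ => Subtype.ext ((evEquiv G K 0).symm_apply_apply _)
      right_inv := fun φ => Subtype.ext ((evEquiv G K 0).apply_symm_apply _)
      map_add' := fun θ θ' => Subtype.ext (map_add (evEquiv G K 0) θ.1 θ'.1) }
  (CochainComplex.isoHomologyπ₀ _).symm ≪≫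
    IsLimit.conePointUniqueUpToIso ((Hyper.cechCxSite K G.obj).cyclesIsKernel 0 1 (by simp))
      (AddCommGrpCat.kernelIsLimit _) ≪≫ (e2.symm.trans e1).toAddCommGrpIso

end GrothLib.Hyper19
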