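import Groth.Agent.Lib.Hyper19.Fill
import Mathlib.Algebra.BigOperators.Fin
import Mathlib.Algebra.Module.Basic
import Mathlib.Algebra.BigOperators.Pi
import Mathlib.Algebra.BigOperators.Group.Finset.Basic

/-! # Cycles are locally boundaries -/

set_option autoImplicit false
set_option linter.unusedVariables false
universe w v u

open CategoryTheory Opposite

namespace GrothLib.Hyper19

variable {C : Type u} [Category.{v} C] (J : GrothendieckTopology C)
  (P : SimplicialObject (Cᵒᵖ ⥤ Type w))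

/-- Chains. -/
abbrev Ch (n : ℕ) (U : C) : Type w := FreeAbelianGroup (Sx P n U)

/-- The boundary. -/
noncomputable def bdry (n : ℕ) (U : C) : Ch P (n + 1) U →+ Ch P n U :=
  ∑ i : Fin (n + 2), ((-1 : ℤ) ^ (i : ℕ)) • FreeAbelianGroup.map (face P i)

/-- Restriction of chains. -/
noncomputable abbrev rstCh {n : ℕ} {U V : C} (g : V ⟶ U) : Ch P n U →+ Ch P n V :=
  FreeAbelianGroup.map (rst P g)

/-- The augmentation. -/
noncomputable def aug (U : C) : Ch P 0 U →+ ℤ := FreeAbelianGroup.lift fun _ => 1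

lemma bdry_of {n : ℕ} {U : C} (σ : Sx P (n + 1) U) :
    bdry P n U (FreeAbelianGroup.of σ) =
      ∑ i : Fin (n + 2), ((-1 : ℤ) ^ (i : ℕ)) • FreeAbelianGroup.of (face P i σ) := by
  rw [bdry, AddMonoidHom.finsetSum_apply]
  refine Finset.sum_congr rfl fun i _ => ?_
  rw [AddMonoidHom.zsmul_apply]
  exact congrArg (((-1 : ℤ) ^ (i : ℕ)) • ·) (FreeAbelianGroup.map_of_apply σ)

lemma exists_finite_support {n : ℕ} {U : C} (z : Ch P n U) :
    ∃ T : Set (Sx P n U), T.Finite ∧ z ∈ AddSubgroup.closure (FreeAbelianGroup.of '' T) := by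
  induction z using FreeAbelianGroup.induction_on with
  | zero => exact ⟨∅, Set.finite_empty, zero_mem _⟩
  | of x => exact ⟨{x}, Set.finite_singleton x, AddSubgroup.subset_closure ⟨x, rfl, rfl⟩⟩
  | neg x h => exact ⟨{x}, Set.finite_singleton x, neg_mem (AddSubgroup.subset_closure ⟨x, rfl, rfl⟩)⟩
  | add a b ha hb =>
    obtain ⟨T, hT, ha⟩ := ha
    obtain ⟨T', hT', hb⟩ := hb
    exact ⟨T ∪ T', hT.union hT', add_mem
      (AddSubgroup.closure_mono (Set.image_mono Set.subset_union_left) ha)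
      (AddSubgroup.closure_mono (Set.image_mono Set.subset_union_right) hb)⟩

variable {J P}

/-- Locally, a cycle of positive degree is a boundary. -/
theorem exists_bdry_eq (hP : Fillable J P) {n : ℕ} {U : C} (z : Ch P (n + 1) U) (hz : bdry P n U z = 0) :
    ∃ S ∈ J U, ∀ ⦃V : C⦄ (g : V ⟶ U), S g → ∃ w, bdry P (n + 1) V w = rstCh P g z := by
  obtain ⟨S₀, hS₀, h₀⟩ := hP.pt U
  obtain ⟨T, hT, hzT⟩ := exists_finite_support P z
  let R : Sieve U :=
    { arrows := fun V g => ∃ (p : Sx P 0 V) (c : Sx P (n + 1) U → Sx P (n + 2) V), Coned P (n + 1) g p T c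
      downward_closed := by
        rintro V W g ⟨p, c, hc⟩ h
        exact ⟨_, _, hc.restrict P h⟩ }
  refine ⟨R, ?_, ?_⟩
  · refine J.transitive hS₀ R fun V g hg => ?_
    obtain ⟨p⟩ := h₀ g hg
    obtain ⟨S, hS, h⟩ := exists_coned hP (n + 1) p (rst P g '' T) (hT.image _)
    refine J.superset_covering (fun W e he => ?_) hS
    obtain ⟨c, c', hc', hc⟩ := h e he
    refine ⟨rst P e p, fun σ => c (rst P g σ), fun σ => c' (rst P g σ), ?_, fun σ hσ => ⟨?_, fun i => ?_⟩⟩
    · clear hc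
      suffices H : ∀ (k : ℕ) (T : Set (Sx P k U)) (T' : Set (Sx P k V)), (∀ a ∈ T, rst P g a ∈ T') →
          ∀ c : Sx P k V → Sx P (k + 1) W, Coned P k e (rst P e p) T' c →
            Coned P k (e ≫ g) (rst P e p) T (fun σ => c (rst P g σ)) from
        H n _ _ (fun a ha => by
          obtain ⟨i, σ, hσ, rfl⟩ := Set.mem_iUnion.1 ha
          exact Set.mem_iUnion.2 ⟨i, rst P g σ, ⟨σ, hσ, rfl⟩, face_rst P g i σ⟩) c' hc'
      intro k
      induction k with
      | zero =>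
        intro T T' hTT' c hc σ hσ
        exact ⟨(hc _ (hTT' σ hσ)).1.trans (rst_rst P g e σ), (hc _ (hTT' σ hσ)).2⟩
      | succ k ih =>
        rintro T T' hTT' c ⟨c'', hc'', hc⟩
        refine ⟨fun σ => c'' (rst P g σ), ih _ _ (fun a ha => ?_) c'' hc'', fun σ hσ => ⟨?_, fun i => ?_⟩⟩
        · obtain ⟨i, σ, hσ, rfl⟩ := Set.mem_iUnion.1 ha
          exact Set.mem_iUnion.2 ⟨i, rst P g σ, hTT' σ hσ, face_rst P g i σ⟩
        · exact (hc _ (hTT' σ hσ)).1.trans (rst_rst P g e σ)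
        · rw [(hc _ (hTT' σ hσ)).2 i, face_rst]
    · exact (hc _ ⟨σ, hσ, rfl⟩).1.trans (rst_rst P g e σ)
    · rw [(hc _ ⟨σ, hσ, rfl⟩).2 i, face_rst]
  · rintro V g ⟨p, c, c', hc', hc⟩
    refine ⟨FreeAbelianGroup.map c z, ?_⟩
    have key : ∀ y ∈ AddSubgroup.closure (FreeAbelianGroup.of '' T),
        bdry P (n + 1) V (FreeAbelianGroup.map c y) = rstCh P g y - FreeAbelianGroup.map c' (bdry P n U y) := by
      intro y hy
      refine AddMonoidHom.eqOn_closure (f := (bdry P (n + 1) V).comp (FreeAbelianGroup.map c))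
        (g := rstCh P g - (FreeAbelianGroup.map c').comp (bdry P n U)) ?_ hy
      rintro _ ⟨σ, hσ, rfl⟩
      change bdry P (n + 1) V (FreeAbelianGroup.map c (FreeAbelianGroup.of σ)) =
        rstCh P g (FreeAbelianGroup.of σ) - FreeAbelianGroup.map c' (bdry P n U (FreeAbelianGroup.of σ))
      simp only [rstCh, FreeAbelianGroup.map_of_apply, bdry_of, map_sum, map_zsmul]
      rw [Fin.sum_univ_succ, Fin.val_zero, pow_zero, one_smul, (hc σ hσ).1, sub_eq_add_neg,
        ← Finset.sum_neg_distrib]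
      refine congrArg (FreeAbelianGroup.of (rst P g σ) + ·) (Finset.sum_congr rfl fun i _ => ?_)
      rw [(hc σ hσ).2 i, Fin.val_succ, pow_succ, mul_neg, mul_one, neg_smul]
    rw [key z hzT, hz, map_zero, sub_zero]

/-- Locally, a chain of degree zero is its augmentation times a point, up to a boundary. -/
theorem exists_bdry_eq_zero (hP : Fillable J P) {U : C} (z : Ch P 0 U) :
    ∃ S ∈ J U, ∀ ⦃V : C⦄ (g : V ⟶ U), S g → ∃ (p : Sx P 0 V) (w : Ch P 1 V),
      bdry P 0 V w = rstCh P g z - aug P U z • FreeAbelianGroup.of p := by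
  obtain ⟨S₀, hS₀, h₀⟩ := hP.pt U
  obtain ⟨T, hT, hzT⟩ := exists_finite_support P z
  let R : Sieve U :=
    { arrows := fun V g => ∃ (p : Sx P 0 V) (c : Sx P 0 U → Sx P 1 V), Coned P 0 g p T c
      downward_closed := by
        rintro V W g ⟨p, c, hc⟩ h
        exact ⟨_, _, hc.restrict P h⟩ }
  refine ⟨R, ?_, ?_⟩
  · refine J.transitive hS₀ R fun V g hg => ?_
    obtain ⟨p⟩ := h₀ g hg
    obtain ⟨S, hS, h⟩ := exists_coned hP 0 p (rst P g '' T) (hT.image _)
    refine J.superset_covering (fun W e he => ?_) hS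
    obtain ⟨c, hc⟩ := h e he
    exact ⟨rst P e p, fun σ => c (rst P g σ), fun σ hσ =>
      ⟨(hc _ ⟨σ, hσ, rfl⟩).1.trans (rst_rst P g e σ), (hc _ ⟨σ, hσ, rfl⟩).2⟩⟩
  · rintro V g ⟨p, c, hc⟩
    refine ⟨p, FreeAbelianGroup.map c z, ?_⟩
    refine AddMonoidHom.eqOn_closure (f := (bdry P 0 V).comp (FreeAbelianGroup.map c))
      (g := rstCh P g - (zmultiplesHom (Ch P 0 V) (FreeAbelianGroup.of p)).comp (aug P U)) ?_ hzT
    rintro _ ⟨σ, hσ, rfl⟩
    change bdry P 0 V (FreeAbelianGroup.map c (FreeAbelianGroup.of σ)) =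
      rstCh P g (FreeAbelianGroup.of σ) - aug P U (FreeAbelianGroup.of σ) • FreeAbelianGroup.of p
    simp only [rstCh, FreeAbelianGroup.map_of_apply, bdry_of, aug, FreeAbelianGroup.lift_apply_of]
    rw [Fin.sum_univ_two, (hc σ hσ).1, (hc σ hσ).2]
    simp [sub_eq_add_neg]

end GrothLib.Hyper19
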