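import Mathlib.AlgebraicTopology.SimplicialObject.Basic
import Mathlib.CategoryTheory.Sites.Grothendieck
import Mathlib.GroupTheory.FreeAbelianGroup
import Mathlib.Data.Set.Finite.Basic

/-! # Simplicial presheaves of sets with locally fillable spheres: local contractions of chains -/

set_option autoImplicit false
set_option linter.unusedVariables false
universe w v u

open CategoryTheory Opposite

namespace GrothLib.Hyper19

variable {C : Type u} [Category.{v} C] (J : GrothendieckTopology C)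
  (P : SimplicialObject (Cᵒᵖ ⥤ Type w))

/-- The sections in degree `n`. -/
abbrev Sx (n : ℕ) (U : C) : Type w := (P.obj (op (SimplexCategory.mk n))).obj (op U)

/-- The face maps on sections. -/
abbrev face {n : ℕ} {U : C} (i : Fin (n + 2)) (x : Sx P (n + 1) U) : Sx P n U :=
  (P.δ i).app (op U) x

/-- Restriction of sections. -/
abbrev rst {n : ℕ} {U V : C} (g : V ⟶ U) (x : Sx P n U) : Sx P n V :=
  (P.obj (op (SimplexCategory.mk n))).map g.op x

lemma face_rst {n : ℕ} {U V : C} (g : V ⟶ U) (i : Fin (n + 2)) (x : Sx P (n + 1) U) :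
    face P i (rst P g x) = rst P g (face P i x) :=
  NatTrans.naturality_apply (P.δ i) g.op x

lemma rst_rst {n : ℕ} {U V W : C} (g : V ⟶ U) (h : W ⟶ V) (x : Sx P n U) :
    rst P h (rst P g x) = rst P (h ≫ g) x :=
  (Functor.map_comp_apply (P.obj (op (SimplexCategory.mk n))) g.op h.op x).symm

lemma face_face {n : ℕ} {U : C} {i j : Fin (n + 2)} (H : i ≤ j) (x : Sx P (n + 2) U) :
    face P i (face P j.succ x) = face P j (face P i.castSucc x) := by
  have h := congrArg (fun t : P.obj _ ⟶ P.obj _ => t.app (op U) x) (P.δ_comp_δ H)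
  exact h

/-- Every sphere is locally filled. -/
structure Fillable : Prop where
  pt : ∀ U : C, ∃ S ∈ J U, ∀ ⦃V : C⦄ (g : V ⟶ U), S g → Nonempty (Sx P 0 V)
  edge : ∀ (U : C) (a b : Sx P 0 U), ∃ S ∈ J U, ∀ ⦃V : C⦄ (g : V ⟶ U), S g →
    ∃ x : Sx P 1 V, face P 0 x = rst P g a ∧ face P 1 x = rst P g b
  fill : ∀ (m : ℕ) (U : C) (y : Fin (m + 3) → Sx P (m + 1) U),
    (∀ i j : Fin (m + 2), i ≤ j → face P i (y j.succ) = face P j (y i.castSucc)) →
    ∃ S ∈ J U, ∀ ⦃V : C⦄ (g : V ⟶ U), S g → ∃ x : Sx P (m + 2) V, ∀ i, face P i x = rst P g (y i)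

/-- The faces of a set of simplices. -/
def faces {n : ℕ} {U : C} (S : Set (Sx P (n + 1) U)) : Set (Sx P n U) :=
  ⋃ i : Fin (n + 2), face P i '' S

lemma finite_faces {n : ℕ} {U : C} {S : Set (Sx P (n + 1) U)} (hS : S.Finite) : (faces P S).Finite :=
  Set.finite_iUnion fun i => hS.image _

/-- A cone with a given vertex on a set of simplices and on its faces. -/
def Coned : ∀ (k : ℕ) {U V : C} (g : V ⟶ U) (p : Sx P 0 V) (S : Set (Sx P k U))
    (c : Sx P k U → Sx P (k + 1) V), Prop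
  | 0, _, _, g, p, S, c => ∀ σ ∈ S, face P 0 (c σ) = rst P g σ ∧ face P 1 (c σ) = p
  | k + 1, _, _, g, p, S, c => ∃ c', Coned k g p (faces P S) c' ∧
      ∀ σ ∈ S, face P 0 (c σ) = rst P g σ ∧ ∀ i : Fin (k + 2), face P i.succ (c σ) = c' (face P i σ)

lemma Coned.restrict {k : ℕ} : ∀ {U V W : C} {g : V ⟶ U} {p : Sx P 0 V} {S : Set (Sx P k U)}
    {c : Sx P k U → Sx P (k + 1) V}, Coned P k g p S c → ∀ h : W ⟶ V,
      Coned P k (h ≫ g) (rst P h p) S (fun σ => rst P h (c σ)) := by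
  induction k with
  | zero =>
    intro U V W g p S c hc h σ hσ
    obtain ⟨h0, h1⟩ := hc σ hσ
    exact ⟨by rw [face_rst, h0, rst_rst], by rw [face_rst, h1]⟩
  | succ k ih =>
    intro U V W g p S c hc h
    obtain ⟨c', hc', hc⟩ := hc
    refine ⟨fun σ => rst P h (c' σ), ih hc' h, fun σ hσ => ⟨?_, fun i => ?_⟩⟩
    · rw [face_rst, (hc σ hσ).1, rst_rst]
    · rw [face_rst, (hc σ hσ).2 i]

lemma Coned.face_zero {k : ℕ} {U V : C} {g : V ⟶ U} {p : Sx P 0 V} {S : Set (Sx P k U)}
    {c : Sx P k U → Sx P (k + 1) V} (hc : Coned P k g p S c) {σ : Sx P k U} (hσ : σ ∈ S) :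
    face P 0 (c σ) = rst P g σ := by
  cases k with
  | zero => exact (hc σ hσ).1
  | succ k => obtain ⟨_, _, h⟩ := hc; exact (h σ hσ).1

lemma Coned.compat {k : ℕ} {U V : C} {g : V ⟶ U} {p : Sx P 0 V} {T : Set (Sx P (k + 1) U)}
    {c : Sx P k U → Sx P (k + 1) V} (hc : Coned P k g p (faces P T) c) {σ : Sx P (k + 1) U} (hσ : σ ∈ T)
    (i j : Fin (k + 1)) (hij : i ≤ j) :
    face P i.succ (c (face P j.succ σ)) = face P j.succ (c (face P i.castSucc σ)) := by
  have hm : ∀ a : Fin (k + 2), face P a σ ∈ faces P T := fun a => Set.mem_iUnion.2 ⟨a, σ, hσ, rfl⟩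
  cases k with
  | zero =>
    obtain rfl : i = 0 := Fin.fin_one_eq_zero i
    obtain rfl : j = 0 := Fin.fin_one_eq_zero j
    exact (hc _ (hm _)).2.trans (hc _ (hm _)).2.symm
  | succ k =>
    obtain ⟨c'', _, h⟩ := hc
    rw [(h _ (hm _)).2 i, (h _ (hm _)).2 j, face_face P hij]

variable {J P}

/-- A degenerate simplex. -/
noncomputable def degen {U : C} (k : ℕ) (p : Sx P 0 U) : Sx P k U :=
  (P.map (SimplexCategory.const (SimplexCategory.mk k) (SimplexCategory.mk 0) 0).op).app (op U) p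

lemma exists_fill_finite (hP : Fillable J P) {m : ℕ} {U : C} {ι : Type*} (T : Set ι) (hT : T.Finite)
    (y : ι → Fin (m + 3) → Sx P (m + 1) U)
    (hy : ∀ a ∈ T, ∀ i j : Fin (m + 2), i ≤ j → face P i (y a j.succ) = face P j (y a i.castSucc)) :
    ∃ S ∈ J U, ∀ ⦃V : C⦄ (g : V ⟶ U), S g → ∀ a ∈ T,
      ∃ x : Sx P (m + 2) V, ∀ i, face P i x = rst P g (y a i) := by
  induction T, hT using Set.Finite.induction_on with
  | empty => exact ⟨⊤, J.top_mem _, fun V g _ a ha => absurd ha (Set.notMem_empty a)⟩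
  | @insert a T _ _ ih =>
    obtain ⟨S₁, h₁, h₁'⟩ := ih fun b hb => hy b (Set.mem_insert_of_mem a hb)
    obtain ⟨S₂, h₂, h₂'⟩ := hP.fill m U (y a) (hy a (Set.mem_insert a T))
    refine ⟨S₁ ⊓ S₂, J.intersection_covering h₁ h₂, fun V g hg b hb => ?_⟩
    rcases hb with rfl | hb
    · exact h₂' g hg.2
    · exact h₁' g hg.1 b hb

lemma exists_edge_finite (hP : Fillable J P) {U : C} (T : Set (Sx P 0 U)) (hT : T.Finite) (p : Sx P 0 U) :
    ∃ S ∈ J U, ∀ ⦃V : C⦄ (g : V ⟶ U), S g → ∀ a ∈ T,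
      ∃ x : Sx P 1 V, face P 0 x = rst P g a ∧ face P 1 x = rst P g p := by
  induction T, hT using Set.Finite.induction_on with
  | empty => exact ⟨⊤, J.top_mem _, fun V g _ a ha => absurd ha (Set.notMem_empty a)⟩
  | @insert a T _ _ ih =>
    obtain ⟨S₁, h₁, h₁'⟩ := ih
    obtain ⟨S₂, h₂, h₂'⟩ := hP.edge U a p
    refine ⟨S₁ ⊓ S₂, J.intersection_covering h₁ h₂, fun V g hg b hb => ?_⟩
    rcases hb with rfl | hb
    · exact h₂' g hg.2
    · exact h₁' g hg.1 b hb

/-- Locally every finite set of simplices has a cone. -/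
theorem exists_coned (hP : Fillable J P) : ∀ (k : ℕ) {U : C} (p : Sx P 0 U) (T : Set (Sx P k U)),
    T.Finite → ∃ S ∈ J U, ∀ ⦃V : C⦄ (g : V ⟶ U), S g → ∃ c, Coned P k g (rst P g p) T c := by
  classical
  intro k
  induction k with
  | zero =>
    intro U p T hT
    obtain ⟨S, hS, h⟩ := exists_edge_finite hP T hT p
    refine ⟨S, hS, fun V g hg => ?_⟩
    choose x hx using h g hg
    refine ⟨fun σ => if hσ : σ ∈ T then x σ hσ else degen 1 (rst P g p), fun σ hσ => ?_⟩
    simp only [dif_pos hσ]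
    exact hx σ hσ
  | succ k ih =>
    intro U p T hT
    obtain ⟨S, hS, h⟩ := ih p (faces P T) (finite_faces P hT)
    let R : Sieve U :=
      { arrows := fun V g => ∃ c, Coned P (k + 1) g (rst P g p) T c
        downward_closed := by
          rintro V W g ⟨c, hc⟩ h
          exact ⟨_, (rst_rst P g h p) ▸ hc.restrict P h⟩ }
    refine ⟨R, ?_, fun V g hg => hg⟩
    refine J.transitive hS R fun V g hg => ?_
    obtain ⟨c', hc'⟩ := h g hg
    let y : Sx P (k + 1) U → Fin (k + 3) → Sx P (k + 1) V := fun σ i =>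
      Fin.cases (motive := fun _ => Sx P (k + 1) V) (rst P g σ) (fun j => c' (face P j σ)) i
    have hy : ∀ σ ∈ T, ∀ i j : Fin (k + 2), i ≤ j → face P i (y σ j.succ) = face P j (y σ i.castSucc) := by
      intro σ hσ i j hij
      have hm : ∀ a : Fin (k + 2), face P a σ ∈ faces P T := fun a => Set.mem_iUnion.2 ⟨a, σ, hσ, rfl⟩
      rcases Fin.eq_zero_or_eq_succ i with rfl | ⟨i', rfl⟩
      · change face P 0 (c' (face P j σ)) = face P j (rst P g σ)
        rw [face_rst]
        exact hc'.face_zero P (hm j)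
      · rcases Fin.eq_zero_or_eq_succ j with rfl | ⟨j', rfl⟩
        · exact absurd hij (by simp)
        · change face P i'.succ (c' (face P j'.succ σ)) = face P j'.succ (y σ (i'.succ).castSucc)
          rw [← Fin.succ_castSucc]
          exact hc'.compat P hσ i' j' (Fin.succ_le_succ_iff.1 hij)
    obtain ⟨S', hS', h'⟩ := exists_fill_finite hP T hT y hy
    refine J.superset_covering ?_ hS'
    intro W e he
    choose x hx using h' e he
    change ∃ c, Coned P (k + 1) (e ≫ g) (rst P (e ≫ g) p) T c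
    refine ⟨fun σ => if hσ : σ ∈ T then x σ hσ else degen (k + 2) (rst P (e ≫ g) p),
      fun σ => rst P e (c' σ), (rst_rst P g e p) ▸ hc'.restrict P e, fun σ hσ => ?_⟩
    simp only [dif_pos hσ]
    refine ⟨(hx σ hσ 0).trans (rst_rst P g e σ), fun i => ?_⟩
    exact hx σ hσ i.succ

end GrothLib.Hyper19
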