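import Mathlib.CategoryTheory.Limits.FormalCoproducts.Basic
import Mathlib.CategoryTheory.Limits.Types.Coproducts
import Mathlib.CategoryTheory.Limits.FunctorCategory.Basic
import Mathlib.CategoryTheory.Yoneda

/-! # Sections of the presheaf of a formal coproduct -/

set_option autoImplicit false
set_option backward.isDefEq.respectTransparency false
universe u

open CategoryTheory CategoryTheory.Limits Opposite

namespace GrothLib.Hyper19

variable {C : Type u} [SmallCategory C]

/-- The presheaf of a formal coproduct. -/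
noncomputable abbrev fy (X : FormalCoproduct.{u} C) : Cᵒᵖ ⥤ Type u := FormalCoproduct.yoneda.obj X

/-- A section from an index and a map. -/
noncomputable def mkSec (X : FormalCoproduct.{u} C) {U : C} (i : X.I) (f : U ⟶ X.obj i) :
    (fy X).obj (op U) :=
  (Sigma.ι (fun j => CategoryTheory.yoneda.obj (X.obj j)) i).app (op U) f

lemma bijective_mkSec (X : FormalCoproduct.{u} C) (U : C) :
    Function.Bijective (fun a : Σ i : X.I, (U ⟶ X.obj i) => mkSec X a.1 a.2) := by
  let F : X.I → Cᵒᵖ ⥤ Type u := fun i => CategoryTheory.yoneda.obj (X.obj i)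
  have h := isColimitCofanMkObjOfIsColimit ((evaluation Cᵒᵖ (Type u)).obj (op U)) F _
    (coproductIsCoproduct F)
  exact (Cofan.nonempty_isColimit_iff_bijective_fromSigma _).1 ⟨h⟩

lemma map_mkSec {X Y : FormalCoproduct.{u} C} (h : X ⟶ Y) {U : C} (i : X.I) (f : U ⟶ X.obj i) :
    (FormalCoproduct.yoneda.map h).app (op U) (mkSec X i f) = mkSec Y (h.f i) (f ≫ h.φ i) := by
  have := congrArg (fun t : CategoryTheory.yoneda.obj (X.obj i) ⟶ fy Y => t.app (op U) f)
    (colimit.ι_desc (Cofan.mk (fy Y) fun j =>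
      CategoryTheory.yoneda.map (h.φ j) ≫ Sigma.ι (fun k => CategoryTheory.yoneda.obj (Y.obj k)) (h.f j)) ⟨i⟩)
  exact this

lemma rst_mkSec (X : FormalCoproduct.{u} C) {U V : C} (g : V ⟶ U) (i : X.I) (f : U ⟶ X.obj i) :
    (fy X).map g.op (mkSec X i f) = mkSec X i (g ≫ f) :=
  (NatTrans.naturality_apply (Sigma.ι (fun j => CategoryTheory.yoneda.obj (X.obj j)) i) g.op f).symm

/-- Sections are maps from the representable object. -/
noncomputable def secHom (X : FormalCoproduct.{u} C) (U : C) :
    (fy X).obj (op U) ≃ ((FormalCoproduct.incl C).obj U ⟶ X) :=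
  (Equiv.ofBijective _ (bijective_mkSec X U)).symm.trans (FormalCoproduct.inclHomEquiv U X).symm

lemma secHom_symm (X : FormalCoproduct.{u} C) {U : C} (a : (FormalCoproduct.incl C).obj U ⟶ X) :
    (secHom X U).symm a = mkSec X (a.f PUnit.unit) (a.φ PUnit.unit) := rfl

lemma secHom_map {X Y : FormalCoproduct.{u} C} (h : X ⟶ Y) {U : C} (s : (fy X).obj (op U)) :
    secHom Y U ((FormalCoproduct.yoneda.map h).app (op U) s) = secHom X U s ≫ h := by
  obtain ⟨a, rfl⟩ := (secHom X U).symm.surjective s
  rw [Equiv.apply_symm_apply, secHom_symm, map_mkSec]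
  apply (secHom Y U).symm.injective
  rw [Equiv.symm_apply_apply, secHom_symm]
  rfl

lemma secHom_rst (X : FormalCoproduct.{u} C) {U V : C} (g : V ⟶ U) (s : (fy X).obj (op U)) :
    secHom X V ((fy X).map g.op s) = (FormalCoproduct.incl C).map g ≫ secHom X U s := by
  obtain ⟨a, rfl⟩ := (secHom X U).symm.surjective s
  rw [Equiv.apply_symm_apply, secHom_symm, rst_mkSec]
  apply (secHom X V).symm.injective
  rw [Equiv.symm_apply_apply, secHom_symm]
  rfl

end GrothLib.Hyper19
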