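import Groth.Agent.Lib.Hyper19.Sphere

/-! # A hypercovering of the final object has locally fillable spheres -/

set_option autoImplicit false
set_option backward.isDefEq.respectTransparency false
universe u

open CategoryTheory CategoryTheory.Limits Opposite Simplicial

namespace GrothLib.Hyper19

variable {C : Type u} [SmallCategory C] {J : GrothendieckTopology C}
  {K : SimplicialObject (FormalCoproduct.{u} C)}
  [∀ (n : ℕ) (F : (SimplexCategory.Truncated n)ᵒᵖ ⥤ Limits.FormalCoproduct.{u} C),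
    (SimplexCategory.Truncated.inclusion n).op.HasRightKanExtension F]

/-- A hypercovering of the final object in Verdier's sense is locally fillable. -/
theorem fillable_of_isHypercoveringSite (hK : Hyper.IsHypercoveringSite J K) : Fillable J (psh K) where
  pt U := by
    have := hK.1
    let z : (⊤_ (Cᵒᵖ ⥤ Type u)).obj (op U) :=
      (terminal.from (CategoryTheory.yoneda.obj U)).app (op U) (𝟙 U)
    exact ⟨_, Presheaf.imageSieve_mem J (U := op U) (terminal.from (fy (K.obj (op ⦋0⦌)))) z,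
      fun V g hg => ⟨hg.choose⟩⟩
  edge U a b := by
    have := hK.2.1
    let z : (fy (K.obj (op ⦋0⦌)) ⨯ fy (K.obj (op ⦋0⦌))).obj (op U) :=
      (prod.lift (yonedaEquiv.symm b) (yonedaEquiv.symm a)).app (op U) (𝟙 U)
    have hb : (prod.fst : fy (K.obj (op ⦋0⦌)) ⨯ fy (K.obj (op ⦋0⦌)) ⟶ _).app (op U) z = b :=
      (congrArg (fun t : CategoryTheory.yoneda.obj U ⟶ fy (K.obj (op ⦋0⦌)) => t.app (op U) (𝟙 U))
        (prod.lift_fst (yonedaEquiv.symm b) (yonedaEquiv.symm a))).trans (yonedaEquiv.apply_symm_apply b)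
    have ha : (prod.snd : fy (K.obj (op ⦋0⦌)) ⨯ fy (K.obj (op ⦋0⦌)) ⟶ _).app (op U) z = a :=
      (congrArg (fun t : CategoryTheory.yoneda.obj U ⟶ fy (K.obj (op ⦋0⦌)) => t.app (op U) (𝟙 U))
        (prod.lift_snd (yonedaEquiv.symm b) (yonedaEquiv.symm a))).trans (yonedaEquiv.apply_symm_apply a)
    refine ⟨_, Presheaf.imageSieve_mem J (U := op U)
      (prod.lift (FormalCoproduct.yoneda.map (K.δ (1 : Fin 2))) (FormalCoproduct.yoneda.map (K.δ (0 : Fin 2)))) z,
      fun V g hg => ?_⟩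
    obtain ⟨x, hx⟩ := hg
    refine ⟨x, ?_, ?_⟩
    · refine (congrArg (fun t : fy (K.obj (op ⦋1⦌)) ⟶ fy (K.obj (op ⦋0⦌)) => t.app (op V) x)
        (prod.lift_snd (FormalCoproduct.yoneda.map (K.δ (1 : Fin 2))) (FormalCoproduct.yoneda.map (K.δ (0 : Fin 2))))).symm.trans ?_
      refine (congrArg ((prod.snd : fy (K.obj (op ⦋0⦌)) ⨯ fy (K.obj (op ⦋0⦌)) ⟶ _).app (op V)) hx).trans ?_
      exact (NatTrans.naturality_apply (prod.snd : fy (K.obj (op ⦋0⦌)) ⨯ fy (K.obj (op ⦋0⦌)) ⟶ _) g.op z).trans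
        (congrArg ((fy (K.obj (op ⦋0⦌))).map g.op) ha)
    · refine (congrArg (fun t : fy (K.obj (op ⦋1⦌)) ⟶ fy (K.obj (op ⦋0⦌)) => t.app (op V) x)
        (prod.lift_fst (FormalCoproduct.yoneda.map (K.δ (1 : Fin 2))) (FormalCoproduct.yoneda.map (K.δ (0 : Fin 2))))).symm.trans ?_
      refine (congrArg ((prod.fst : fy (K.obj (op ⦋0⦌)) ⨯ fy (K.obj (op ⦋0⦌)) ⟶ _).app (op V)) hx).trans ?_
      exact (NatTrans.naturality_apply (prod.fst : fy (K.obj (op ⦋0⦌)) ⨯ fy (K.obj (op ⦋0⦌)) ⟶ _) g.op z).trans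
        (congrArg ((fy (K.obj (op ⦋0⦌))).map g.op) hb)
  fill m U y hy := exists_fill K m (hK.2.2 (m + 1) (by omega)) U y hy

end GrothLib.Hyper19
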