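import Groth.Agent.Lib.Hyper19.Chain
import Groth.Agent.Lib.Hyper19.Site
import Groth.Agent.Lib.SheafCoh.Acyclic
import Mathlib.CategoryTheory.Sites.LocallyBijective
import Mathlib.CategoryTheory.Sites.LeftExact
import Mathlib.Algebra.Category.Grp.FilteredColimits
import Mathlib.Algebra.Homology.ShortComplex.ExactFunctor

/-! # The free chain complex of a locally fillable simplicial presheaf resolves the constant sheaf -/

set_option autoImplicit false
set_option backward.isDefEq.respectTransparency false
universe u

open CategoryTheory CategoryTheory.Limits Opposite Simplicial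

namespace GrothLib.Hyper19

variable {C : Type u} [SmallCategory C] (J : GrothendieckTopology C)
  (P : SimplicialObject (Cᵒᵖ ⥤ Type u))

/-- The free presheaf of groups. -/
noncomputable abbrev freeP : (Cᵒᵖ ⥤ Type u) ⥤ (Cᵒᵖ ⥤ AddCommGrpCat.{u}) :=
  (Functor.whiskeringRight _ _ _).obj AddCommGrpCat.free.{u}

/-- The chain complex of presheaves. -/
noncomputable abbrev pcx : ChainComplex (Cᵒᵖ ⥤ AddCommGrpCat.{u}) ℕ :=
  (AlgebraicTopology.alternatingFaceMapComplex _).obj (P ⋙ freeP)

lemma hom_sum_apply {A B : AddCommGrpCat.{u}} {ι : Type*} (s : Finset ι) (f : ι → (A ⟶ B)) (a : A) :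
    (∑ i ∈ s, f i) a = ∑ i ∈ s, f i a := by
  induction s using Finset.cons_induction with
  | empty => rfl
  | cons i s hi ih => rw [Finset.sum_cons, Finset.sum_cons, ← ih]; rfl

/-- The differential on sections is the boundary. -/
lemma pcx_d_apply (n : ℕ) (U : C) (z : Ch P (n + 1) U) :
    (show Ch P n U from ((pcx P).d (n + 1) n).app (op U) z) = bdry P n U z := by
  change ((pcx P).d (n + 1) n).app (op U) z = _
  rw [AlgebraicTopology.alternatingFaceMapComplex_obj_d, AlgebraicTopology.AlternatingFaceMapComplex.objD,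
    NatTrans.app_sum]
  induction z using FreeAbelianGroup.induction_on with
  | zero => rw [map_zero, map_zero]
  | of σ =>
    rw [bdry_of]
    erw [hom_sum_apply]
    refine Finset.sum_congr rfl fun i _ => ?_
    rw [NatTrans.app_zsmul]
    exact congrArg (fun t : Ch P n U => ((-1 : ℤ) ^ (i : ℕ)) • t) (FreeAbelianGroup.map_of_apply σ)
  | neg σ h => rw [map_neg, map_neg]; exact congrArg Neg.neg h
  | add a b ha hb => rw [map_add, map_add]; exact congrArg₂ (· + ·) ha hb

/-- Homology classes come from cycles. -/
lemma exists_rep (n : ℕ) (U : C) (x : ((pcx P).homology n).obj (op U)) :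
    ∃ c : ((pcx P).cycles n).obj (op U), ((pcx P).homologyπ n).app (op U) c = x :=
  (AddCommGrpCat.epi_iff_surjective _).1
    (((evaluation Cᵒᵖ AddCommGrpCat.{u}).obj (op U)).map_epi ((pcx P).homologyπ n)) x

lemma iCycles_injective (n : ℕ) (U : C) : Function.Injective (((pcx P).iCycles n).app (op U)) :=
  (AddCommGrpCat.mono_iff_injective _).1
    (((evaluation Cᵒᵖ AddCommGrpCat.{u}).obj (op U)).map_mono ((pcx P).iCycles n))

/-- A cycle which is locally a boundary has locally vanishing class. -/
lemma exists_class_eq_zero (n : ℕ) {U : C} (c : ((pcx P).cycles n).obj (op U))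
    (h : ∃ S ∈ J U, ∀ ⦃V : C⦄ (g : V ⟶ U), S g →
      ∃ w : Ch P (n + 1) V, bdry P n V w = rstCh P g (((pcx P).iCycles n).app (op U) c)) :
    ∃ S ∈ J U, ∀ ⦃V : C⦄ (g : V ⟶ U), S g →
      ((pcx P).homology n).map g.op (((pcx P).homologyπ n).app (op U) c) = 0 := by
  obtain ⟨S, hS, h⟩ := h
  refine ⟨S, hS, fun V g hg => ?_⟩
  obtain ⟨w, hw⟩ := h g hg
  have hc : ((pcx P).cycles n).map g.op c = ((pcx P).toCycles (n + 1) n).app (op V) w := by
    apply iCycles_injective P n V
    refine (NatTrans.naturality_apply ((pcx P).iCycles n) g.op c).trans (Eq.trans ?_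
      (congrArg (fun t => t.app (op V) w) ((pcx P).toCycles_i (n + 1) n)).symm)
    exact hw.symm.trans (pcx_d_apply P n V w).symm
  rw [← NatTrans.naturality_apply ((pcx P).homologyπ n) g.op c, hc]
  exact congrArg (fun t : (pcx P).X (n + 1) ⟶ (pcx P).homology n => t.app (op V) w)
    ((pcx P).toCycles_comp_homologyπ (n + 1) n)

variable {J P}

/-- The homology presheaves of positive degree are locally zero. -/
theorem locally_zero_homology (hP : Fillable J P) (n : ℕ) (U : C) (x : ((pcx P).homology (n + 1)).obj (op U)) :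
    ∃ S ∈ J U, ∀ ⦃V : C⦄ (g : V ⟶ U), S g → ((pcx P).homology (n + 1)).map g.op x = 0 := by
  obtain ⟨c, rfl⟩ := exists_rep P (n + 1) U x
  refine exists_class_eq_zero J P (n + 1) c (exists_bdry_eq hP _ ?_)
  rw [← pcx_d_apply]
  exact congrArg (fun t : (pcx P).cycles (n + 1) ⟶ (pcx P).X n => t.app (op U) c) ((pcx P).iCycles_d (n + 1) n)

variable (J P)

/-- The augmentation to the constant presheaf. -/
noncomputable def augP : (pcx P).X 0 ⟶ (Functor.const Cᵒᵖ).obj (AddCommGrpCat.free.{u}.obj PUnit.{u + 1}) where
  app U := AddCommGrpCat.free.map (TypeCat.ofHom fun _ => PUnit.unit)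
  naturality U V g := by
    refine ConcreteCategory.hom_ext _ _ fun z => ?_
    induction z using FreeAbelianGroup.induction_on with
    | zero => exact (map_zero _).trans (map_zero _).symm
    | of σ =>
      change FreeAbelianGroup.map (fun _ => PUnit.unit) (FreeAbelianGroup.map (((P.obj (op ⦋0⦌)).map g) ·) (FreeAbelianGroup.of σ)) =
        FreeAbelianGroup.map (fun _ => PUnit.unit) (FreeAbelianGroup.of σ)
      rw [FreeAbelianGroup.map_of_apply, FreeAbelianGroup.map_of_apply, FreeAbelianGroup.map_of_apply]
    | neg σ h => rw [map_neg, map_neg, h]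
    | add a b ha hb => rw [map_add, map_add, ha, hb]

lemma augP_apply (U : C) (z : Ch P 0 U) :
    (show FreeAbelianGroup PUnit.{u + 1} from (augP P).app (op U) z) = aug P U z • FreeAbelianGroup.of PUnit.unit := by
  change (augP P).app (op U) z = _
  induction z using FreeAbelianGroup.induction_on with
  | zero => rw [map_zero, map_zero, zero_smul]
  | of σ => simp only [aug, FreeAbelianGroup.lift_apply_of, one_smul]; exact FreeAbelianGroup.map_of_apply σ
  | neg σ h => rw [map_neg, map_neg, neg_smul]; exact congrArg Neg.neg h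
  | add a b ha hb => rw [map_add, map_add, add_smul]; exact congrArg₂ (· + ·) ha hb

lemma d_augP : (pcx P).d 1 0 ≫ augP P = 0 := by
  refine NatTrans.ext (funext fun U => ConcreteCategory.hom_ext _ _ fun z => ?_)
  obtain ⟨U⟩ := U
  refine (congrArg ((augP P).app (op U)) (pcx_d_apply P 0 U z)).trans ?_
  refine (augP_apply P U (bdry P 0 U z)).trans ?_
  suffices h : (aug P U).comp (bdry P 0 U) = 0 by
    have := DFunLike.congr_fun h z
    exact (congrArg (fun t : ℤ => t • FreeAbelianGroup.of PUnit.unit) this).trans (zero_smul ℤ _)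
  refine FreeAbelianGroup.lift_ext _ _ fun σ => ?_
  simp [bdry_of, aug, Fin.sum_univ_two]

/-- The augmentation on homology. -/
noncomputable def augH : (pcx P).homology 0 ⟶ (Functor.const Cᵒᵖ).obj (AddCommGrpCat.free.{u}.obj PUnit.{u + 1}) :=
  (pcx P).isoHomologyι₀.hom ≫ (pcx P).descOpcycles (augP P) 1 (by simp) (d_augP P)

lemma augH_π : (pcx P).homologyπ 0 ≫ augH P = (pcx P).iCycles 0 ≫ augP P := by
  rw [augH]
  erw [HomologicalComplex.homology_π_ι_assoc]
  rw [HomologicalComplex.p_descOpcycles]

variable {J P}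

theorem isLocallyInjective_augH (hP : Fillable J P) : Presheaf.IsLocallyInjective J (augH P) where
  equalizerSieve_mem {U} x y h := by
    obtain ⟨U⟩ := U
    obtain ⟨c, hc⟩ := exists_rep P 0 U (x - y)
    let z : Ch P 0 U := ((pcx P).iCycles 0).app (op U) c
    have hz : aug P U z = 0 := by
      have h1 : (augP P).app (op U) z = 0 := by
        refine (congrArg (fun t => t.app (op U) c) (augH_π P)).symm.trans ?_
        change (augH P).app (op U) (((pcx P).homologyπ 0).app (op U) c) = 0
        rw [hc, map_sub, h, sub_self]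
      have h2 := congrArg (FreeAbelianGroup.lift fun _ : PUnit.{u + 1} => (1 : ℤ)) ((augP_apply P U z).symm.trans h1)
      refine Eq.trans ?_ (h2.trans (map_zero _))
      rw [map_zsmul, FreeAbelianGroup.lift_apply_of, smul_eq_mul, mul_one]
    obtain ⟨S, hS, h'⟩ := exists_class_eq_zero J P 0 c (by
      obtain ⟨S, hS, h'⟩ := exists_bdry_eq_zero hP z
      refine ⟨S, hS, fun V g hg => ?_⟩
      obtain ⟨p, w, hw⟩ := h' g hg
      exact ⟨w, by rw [hw, hz, zero_smul, sub_zero]⟩)
    refine J.superset_covering (fun V g hg => ?_) hS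
    have := h' g hg
    rw [hc, map_sub] at this
    exact sub_eq_zero.1 this

theorem isLocallySurjective_augH (hP : Fillable J P) : Presheaf.IsLocallySurjective J (augH P) where
  imageSieve_mem {U} s := by
    obtain ⟨S, hS, h⟩ := hP.pt U
    refine J.superset_covering (fun V g hg => ?_) hS
    obtain ⟨p⟩ := h g hg
    let m : ℤ := FreeAbelianGroup.lift (fun _ : PUnit.{u + 1} => (1 : ℤ)) (show FreeAbelianGroup PUnit.{u + 1} from s)
    obtain ⟨c, hc⟩ : ∃ c : ((pcx P).cycles 0).obj (op V), ((pcx P).iCycles 0).app (op V) c = m • FreeAbelianGroup.of p := by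
      have : IsIso ((pcx P).iCycles 0) := (pcx P).isIso_iCycles 0 0 (by simp) (by simp)
      exact (ConcreteCategory.bijective_of_isIso (((pcx P).iCycles 0).app (op V))).2 _
    refine ⟨((pcx P).homologyπ 0).app (op V) c, ?_⟩
    refine (congrArg (fun t => t.app (op V) c) (augH_π P)).trans ?_
    change (augP P).app (op V) (((pcx P).iCycles 0).app (op V) c) = s
    rw [hc]
    refine (map_zsmul ((augP P).app (op V)).hom m (FreeAbelianGroup.of p)).trans ?_
    refine (congrArg (m • ·) (FreeAbelianGroup.map_of_apply (f := fun _ => PUnit.unit) p)).trans ?_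
    have : ∀ t : FreeAbelianGroup PUnit.{u + 1},
        FreeAbelianGroup.lift (fun _ : PUnit.{u + 1} => (1 : ℤ)) t • FreeAbelianGroup.of PUnit.unit = t := fun t => by
      induction t using FreeAbelianGroup.induction_on with
      | zero => simp
      | of a => simp
      | neg a h => rw [map_neg, neg_smul, h]
      | add a b ha hb => rw [map_add, add_smul, ha, hb]
    exact this s

variable (J P)

/-- The chain complex of sheaves. -/
noncomputable abbrev scx : ChainComplex (Sheaf J AddCommGrpCat.{u}) ℕ :=
  (AlgebraicTopology.alternatingFaceMapComplex _).obj ((P ⋙ freeP) ⋙ presheafToSheaf J AddCommGrpCat.{u})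

/-- Sheafification commutes with the homology of the free chain complexes. -/
noncomputable def scxHomologyIso (n : ℕ) :
    (scx J P).homology n ≅ (presheafToSheaf J AddCommGrpCat.{u}).obj ((pcx P).homology n) :=
  haveI := Functor.preservesHomologyOfExact (presheafToSheaf J AddCommGrpCat.{u})
  (HomologicalComplex.homologyFunctor _ _ n).mapIso
      (eqToIso (Functor.congr_obj (AlgebraicTopology.map_alternatingFaceMapComplex
        (presheafToSheaf J AddCommGrpCat.{u})) (P ⋙ freeP)).symm) ≪≫
    ((pcx P).sc n).mapHomologyIso (presheafToSheaf J AddCommGrpCat.{u})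

variable {J P}

theorem isZero_scx_homology (hP : Fillable J P) (n : ℕ) : IsZero ((scx J P).homology (n + 1)) :=
  (SheafCoh.isZero_sheafify_of_res_locally_zero _ (locally_zero_homology hP n)).of_iso (scxHomologyIso J P (n + 1))

theorem isIso_augH (hP : Fillable J P) : IsIso ((presheafToSheaf J AddCommGrpCat.{u}).map (augH P)) := by
  have := isLocallyInjective_augH hP
  have := isLocallySurjective_augH hP
  exact (J.W_iff_isIso_map_of_adjunction (sheafificationAdjunction J AddCommGrpCat.{u}) (augH P)).1
    (J.W_of_isLocallyBijective (augH P))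

/-- Degree zero homology is the constant sheaf. -/
noncomputable def scxHomologyZeroIso (hP : Fillable J P) :
    (scx J P).homology 0 ≅
      (presheafToSheaf J AddCommGrpCat.{u}).obj ((Functor.const Cᵒᵖ).obj (AddCommGrpCat.free.{u}.obj PUnit.{u + 1})) :=
  haveI := isIso_augH hP
  scxHomologyIso J P 0 ≪≫ asIso ((presheafToSheaf J AddCommGrpCat.{u}).map (augH P))

end GrothLib.Hyper19
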