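import Groth.Agent.Lib.Hyper19.Cech
import Groth.Agent.Lib.DescSS19.Main
import Groth.Agent.Lib.GrothSS.HomExt
import Groth.Agent.Lib.GrothSS.Site
import Mathlib.Algebra.Homology.GrothendieckAbelian
import Mathlib.CategoryTheory.Limits.Preserves.Finite
import Mathlib.Algebra.Homology.ShortComplex.ExactFunctor

/-! # The spectral sequence of a hypercovering -/

set_option autoImplicit false
set_option backward.isDefEq.respectTransparency false
universe u

open CategoryTheory CategoryTheory.Limits Opposite Simplicial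

namespace GrothLib.Hyper19

variable {C : Type u} [SmallCategory C] (K : SimplicialObject (FormalCoproduct.{u} C))

/-- The Cech complex as a functor of the presheaf. -/
noncomputable abbrev cxK : (Cᵒᵖ ⥤ AddCommGrpCat.{u}) ⥤ CochainComplex AddCommGrpCat.{u} ℕ :=
  FormalCoproduct.cochainComplexFunctor K

/-- A coordinate of a cochain. -/
noncomputable abbrev cev (P : Cᵒᵖ ⥤ AddCommGrpCat.{u}) {n : ℕ} (i : (K.obj (op ⦋n⦌)).I) :
    ((cxK K).obj P).X n ⟶ P.obj (op ((K.obj (op ⦋n⦌)).obj i)) :=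
  Pi.π (fun i : (K.obj (op ⦋n⦌)).I => P.obj (op ((K.obj (op ⦋n⦌)).obj i))) i

variable {K}

lemma cext {P : Cᵒᵖ ⥤ AddCommGrpCat.{u}} {n : ℕ} {x y : ((cxK K).obj P).X n}
    (h : ∀ i, cev K P i x = cev K P i y) : x = y :=
  (Concrete.productEquiv (fun i : (K.obj (op ⦋n⦌)).I => P.obj (op ((K.obj (op ⦋n⦌)).obj i)))).injective
    (funext fun i => by rw [Concrete.productEquiv_apply_apply, Concrete.productEquiv_apply_apply]; exact h i)

lemma cev_map {P Q : Cᵒᵖ ⥤ AddCommGrpCat.{u}} (g : P ⟶ Q) {n : ℕ} (i : (K.obj (op ⦋n⦌)).I)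
    (x : ((cxK K).obj P).X n) :
    cev K Q i (((cxK K).map g).f n x) = g.app (op ((K.obj (op ⦋n⦌)).obj i)) (cev K P i x) :=
  ConcreteCategory.congr_hom (Pi.map_π
    (fun i : (K.obj (op ⦋n⦌)).I => g.app (op ((K.obj (op ⦋n⦌)).obj i))) i) x

variable (K)

instance : (cxK K).Additive where
  map_add {P Q f g} := by
    apply HomologicalComplex.hom_ext
    intro n
    ext x
    refine cext fun i => ?_
    change cev K _ i _ = cev K _ i ((((cxK K).map f).f n x) + (((cxK K).map g).f n x))
    rw [map_add, cev_map, cev_map, cev_map]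
    rfl

theorem cxK_shortExact (S : ShortComplex (Cᵒᵖ ⥤ AddCommGrpCat.{u})) (hS : S.ShortExact) :
    (S.map (cxK K)).ShortExact := by
  have hW : ∀ W, (S.map ((evaluation _ _).obj W)).ShortExact := fun W => hS.map_of_exact _
  apply HomologicalComplex.shortExact_of_degreewise_shortExact
  intro n
  refine { exact := ?_, mono_f := ?_, epi_g := ?_ }
  · rw [ShortComplex.ab_exact_iff]
    intro (x : ((cxK K).obj S.X₂).X n) hx
    have : ∀ i, ∃ r, S.f.app (op ((K.obj (op ⦋n⦌)).obj i)) r = cev K S.X₂ i x := by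
      intro i
      refine (ShortComplex.ab_exact_iff _).1 (hW _).exact _ ?_
      change S.g.app _ _ = 0
      rw [← cev_map]
      exact (congrArg (cev K _ i) hx).trans (map_zero _)
    choose r hr using this
    refine ⟨(Concrete.productEquiv (fun i : (K.obj (op ⦋n⦌)).I => S.X₁.obj (op ((K.obj (op ⦋n⦌)).obj i)))).symm r,
      cext fun i => ?_⟩
    change cev K _ i (((cxK K).map S.f).f n _) = _
    rw [cev_map]
    exact (congrArg _ (Concrete.productEquiv_symm_apply_π _ r i)).trans (hr i)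
  · rw [AddCommGrpCat.mono_iff_injective]
    intro (x : ((cxK K).obj S.X₁).X n) (y : ((cxK K).obj S.X₁).X n) hxy
    refine cext fun i => (AddCommGrpCat.mono_iff_injective _).1 (hW _).mono_f ?_
    change S.f.app _ _ = S.f.app _ _
    rw [← cev_map, ← cev_map]
    exact congrArg (cev K _ i) hxy
  · rw [AddCommGrpCat.epi_iff_surjective]
    intro x
    have : ∀ i, ∃ r, S.g.app (op ((K.obj (op ⦋n⦌)).obj i)) r = cev K S.X₃ i x :=
      fun i => (AddCommGrpCat.epi_iff_surjective _).1 (hW _).epi_g _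
    choose r hr using this
    refine ⟨(Concrete.productEquiv (fun i : (K.obj (op ⦋n⦌)).I => S.X₂.obj (op ((K.obj (op ⦋n⦌)).obj i)))).symm r,
      cext fun i => ?_⟩
    change cev K _ i (((cxK K).map S.g).f n _) = _
    rw [cev_map]
    exact (congrArg _ (Concrete.productEquiv_symm_apply_π _ r i)).trans (hr i)

theorem preservesHomology_cxK : (cxK K).PreservesHomology :=
  (((cxK K).exact_tfae).out 0 2).1 (cxK_shortExact K)

variable {K} (J : GrothendieckTopology C)

lemma ev_comp {G G' : Sheaf J AddCommGrpCat.{u}} (g : G ⟶ G') (n : ℕ)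
    (θ : (scx J (psh K)).X n ⟶ G) :
    ((cxK K).map g.hom).f n (evEquiv G K n θ) = evEquiv G' K n (θ ≫ g) := by
  refine cext fun i => ?_
  rw [cev_map]
  refine (congrArg _ (π_ev G _ θ i)).trans (Eq.trans ?_ (π_ev G' _ (θ ≫ g) i).symm)
  have h := (sheafificationAdjunction J AddCommGrpCat.{u}).homEquiv_naturality_right θ g
  exact (congrArg (fun t : freeP.obj (fy (K.obj (op ⦋n⦌))) ⟶ G'.obj =>
    t.app (op ((K.obj (op ⦋n⦌)).obj i)) (FreeAbelianGroup.of (mkSec (K.obj (op ⦋n⦌)) i (𝟙 _)))) h).symm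

/-- The integers as a constant sheaf. -/
noncomputable abbrev zSheaf : Sheaf J AddCommGrpCat.{u} :=
  (constantSheaf J AddCommGrpCat.{u}).obj (AddCommGrpCat.of (ULift.{u} ℤ))

variable {J}

/-- The augmentation onto the constant sheaf. -/
noncomputable def opcIso (hP : Fillable J (psh K)) : (scx J (psh K)).opcycles 0 ≅ zSheaf J :=
  (scx J (psh K)).isoHomologyι₀.symm ≪≫ scxHomologyZeroIso hP ≪≫
    (presheafToSheaf J AddCommGrpCat.{u}).mapIso ((Functor.const _).mapIso
      (AddEquiv.toAddCommGrpIso (Y := AddCommGrpCat.of (ULift.{u} ℤ))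
        ((FreeAbelianGroup.uniqueEquiv PUnit.{u + 1}).trans AddEquiv.ulift.symm)))

/-- Global sections as cocycles. -/
noncomputable def zKerEquiv (hP : Fillable J (psh K)) (G : Sheaf J AddCommGrpCat.{u}) :
    (zSheaf J ⟶ G) ≃+ AddMonoidHom.ker ((Hyper.cechCxSite K G.obj).d 0 1).hom :=
  (precompEquiv G (opcIso hP)).trans <| (descEquiv G (scx J (psh K))).trans
    { toFun := fun θ => ⟨evEquiv G K 0 θ.1, (evEquiv_d G K 0 θ.1).trans
        ((congrArg (evEquiv G K 1) θ.2).trans (map_zero _))⟩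
      invFun := fun φ => ⟨(evEquiv G K 0).symm φ.1, (evEquiv G K 1).map_eq_zero_iff.1
        (((evEquiv_d G K 0 _).symm.trans (by rw [AddEquiv.apply_symm_apply])).trans φ.2)⟩
      left_inv := fun θ => Subtype.ext ((evEquiv G K 0).symm_apply_apply _)
      right_inv := fun φ => Subtype.ext ((evEquiv G K 0).apply_symm_apply _)
      map_add' := fun θ θ' => Subtype.ext (map_add (evEquiv G K 0) θ.1 θ'.1) }

lemma zKerEquiv_val (hP : Fillable J (psh K)) (G : Sheaf J AddCommGrpCat.{u}) (θ : zSheaf J ⟶ G) :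
    (zKerEquiv hP G θ).1 =
      evEquiv G K 0 ((scx J (psh K)).pOpcycles 0 ≫ (opcIso hP).hom ≫ θ) := rfl

/-- Global sections as cycles. -/
noncomputable def zCyclesIso (hP : Fillable J (psh K)) (G : Sheaf J AddCommGrpCat.{u}) :
    (GrothSS.homFun (zSheaf J)).obj G ≅ ((cxK K).obj G.obj).cycles 0 :=
  (zKerEquiv hP G).toAddCommGrpIso ≪≫
    IsLimit.conePointUniqueUpToIso (AddCommGrpCat.kernelIsLimit _)
      (((cxK K).obj G.obj).cyclesIsKernel 0 1 (by simp))

lemma zCyclesIso_i (hP : Fillable J (psh K)) (G : Sheaf J AddCommGrpCat.{u}) (θ : zSheaf J ⟶ G) :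
    ((cxK K).obj G.obj).iCycles 0 ((zCyclesIso hP G).hom θ) = (zKerEquiv hP G θ).1 :=
  ConcreteCategory.congr_hom (IsLimit.conePointUniqueUpToIso_hom_comp
    (AddCommGrpCat.kernelIsLimit (((cxK K).obj G.obj).d 0 1))
    (((cxK K).obj G.obj).cyclesIsKernel 0 1 (by simp)) WalkingParallelPair.zero) (zKerEquiv hP G θ)

/-- Global sections are the zeroth Cech cohomology, naturally. -/
noncomputable def zCechIso (hP : Fillable J (psh K)) :
    GrothSS.homFun (zSheaf J) ≅ (sheafToPresheaf J AddCommGrpCat.{u} ⋙ cxK K) ⋙ DescSS19.h0 _ :=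
  NatIso.ofComponents (fun G => zCyclesIso hP G ≪≫ CochainComplex.isoHomologyπ₀ _)
    (fun {G G'} g => by
      have key : (GrothSS.homFun (zSheaf J)).map g ≫ (zCyclesIso hP G').hom =
          (zCyclesIso hP G).hom ≫ HomologicalComplex.cyclesMap ((cxK K).map g.hom) 0 := by
        rw [← cancel_mono (((cxK K).obj G'.obj).iCycles 0), Category.assoc, Category.assoc,
          HomologicalComplex.cyclesMap_i]
        refine ConcreteCategory.hom_ext _ _ fun (θ : zSheaf J ⟶ G) => ?_
        refine (zCyclesIso_i hP G' (θ ≫ g)).trans ?_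
        refine Eq.trans ?_ (congrArg (((cxK K).map g.hom).f 0) (zCyclesIso_i hP G θ)).symm
        rw [zKerEquiv_val, zKerEquiv_val]
        refine Eq.trans ?_ (ev_comp J g 0 _).symm
        rw [Category.assoc, Category.assoc]
      change (GrothSS.homFun (zSheaf J)).map g ≫ (zCyclesIso hP G').hom ≫
          ((cxK K).obj G'.obj).homologyπ 0 =
        ((zCyclesIso hP G).hom ≫ ((cxK K).obj G.obj).homologyπ 0) ≫
          HomologicalComplex.homologyMap ((cxK K).map g.hom) 0
      rw [← Category.assoc, key, Category.assoc, Category.assoc, HomologicalComplex.homologyπ_naturality])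

attribute [local instance] preservesHomology_cxK in
/-- The spectral sequence of a hypercovering of the final object. -/
theorem exists_cech_spectralSequence (hP : Fillable J (psh K)) (F : Sheaf J AddCommGrpCat.{u}) :
    ∃ (E : E₂CohomologicalSpectralSequence AddCommGrpCat.{u})
      (a : SpSeq.Abutment E (fun n : ℤ => if 0 ≤ n then AddCommGrpCat.of (Sheaf.H F n.toNat) else AddCommGrpCat.of PUnit.{u + 1})),
      (∀ n, a.IsFinite n) ∧ SpSeq.IsBounded E ∧
      ∀ p q : ℤ, Nonempty ((E.page 2 le_rfl).X (p, q) ≅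
        (if 0 ≤ p ∧ 0 ≤ q then (Hyper.cechCxSite K (Sheaf.cohomologyPresheaf F q.toNat)).homology p.toNat
         else AddCommGrpCat.of PUnit.{u + 1})) := by
  have := DescSS19.preservesFiniteLimits_h0 (B := AddCommGrpCat.{u})
  exact GrothSS.exists_grothendieck (DescSS19.h0 AddCommGrpCat.{u})
    (sheafToPresheaf J AddCommGrpCat.{u} ⋙ cxK K)
    (fun I hI q hq => by
      obtain ⟨m, rfl⟩ : ∃ m, q = m + 1 := ⟨q - 1, by omega⟩
      exact (isZero_cech_homology I K hP m).of_iso (DescSS19.nonempty_rightDerived_h0_iso _ _).some)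
    F (fun p q => (Hyper.cechCxSite K (Sheaf.cohomologyPresheaf F q)).homology p)
    (fun n => AddCommGrpCat.of (Sheaf.H F n)) _ (AddCommGrpCat.isZero_of_subsingleton _)
    (fun n => ⟨((GrothSS.rightDerivedExtFunctorIso (zSheaf J) _ (zCechIso hP).symm n).app F).symm⟩)
    (fun p q => ⟨(DescSS19.nonempty_rightDerived_h0_iso _ p).some.symm ≪≫
      ((DescSS19.h0 AddCommGrpCat.{u}).rightDerived p).mapIso
        (SheafCoh.rightDerivedCompIso (sheafToPresheaf J AddCommGrpCat.{u} ⋙ cxK K) (cxK K)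
          (Iso.refl _) F q).symm⟩)

end GrothLib.Hyper19
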