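import Groth.Agent.Lib.Hyper19.Fill
import Groth.Agent.Lib.Hyper19.Formal
import Groth.Prelude.Def_Hyper

/-! # Spheres are locally filled in a hypercovering -/

set_option autoImplicit false
set_option backward.isDefEq.respectTransparency false
set_option linter.unusedVariables false
universe u

open CategoryTheory CategoryTheory.Limits Opposite Simplicial

namespace GrothLib.Hyper19

variable {C : Type u} [SmallCategory C]

/-- The simplicial presheaf of a simplicial formal coproduct. -/
noncomputable abbrev psh (K : SimplicialObject (FormalCoproduct.{u} C)) : SimplicialObject (Cᵒᵖ ⥤ Type u) :=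
  K ⋙ FormalCoproduct.yoneda

variable {P : SimplicialObject (Cᵒᵖ ⥤ Type u)}

/-- The operation of a map of simplices on sections. -/
abbrev act {a b : SimplexCategory} {U : C} (θ : a ⟶ b) (x : (P.obj (op b)).obj (op U)) :
    (P.obj (op a)).obj (op U) :=
  (P.map θ.op).app (op U) x

lemma act_comp {a b c : SimplexCategory} {U : C} (θ : a ⟶ b) (θ' : b ⟶ c) (x : (P.obj (op c)).obj (op U)) :
    act (θ ≫ θ') x = act θ (act θ' x) := by
  change (P.map (θ ≫ θ').op).app (op U) x = _
  rw [op_comp, P.map_comp]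
  rfl

lemma act_id {a : SimplexCategory} {U : C} (x : (P.obj (op a)).obj (op U)) : act (𝟙 a) x = x := by
  change (P.map (𝟙 a).op).app (op U) x = _
  rw [op_id, P.map_id]
  rfl

section Family

variable {m : ℕ} {U : C} (y : Fin (m + 3) → Sx P (m + 1) U)

/-- The value at a non-surjective map. -/
noncomputable def famVal {a : SimplexCategory} (θ : a ⟶ ⦋m + 2⦌) (hθ : ¬ Function.Surjective θ.toOrderHom) :
    (P.obj (op a)).obj (op U) :=
  act (SimplexCategory.eq_comp_δ_of_not_surjective θ hθ).choose_spec.choose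
    (y (SimplexCategory.eq_comp_δ_of_not_surjective θ hθ).choose)

variable (hy : ∀ i j : Fin (m + 2), i ≤ j → face P i (y j.succ) = face P j (y i.castSucc))

include hy in
lemma act_eq_of_lt {a : SimplexCategory} {i j : Fin (m + 3)} (hij : i < j) (θ θ' : a ⟶ ⦋m + 1⦌)
    (h : θ ≫ SimplexCategory.δ i = θ' ≫ SimplexCategory.δ j) :
    act θ (y i) = act θ' (y j) := by
  obtain ⟨j', rfl⟩ := Fin.eq_succ_of_ne_zero (i := j) (fun hj => by subst hj; exact absurd hij (by simp))
  obtain ⟨i', rfl⟩ := Fin.exists_castSucc_eq.2 (Fin.ne_last_of_lt hij)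
  have hij' : i' ≤ j' := Fin.castSucc_lt_succ_iff.1 hij
  have hns : ∀ x, θ.toOrderHom x ≠ j' := fun x hx => by
    have h1 := congrArg (fun t : a ⟶ ⦋m + 2⦌ => t.toOrderHom x) h
    change Fin.succAbove i'.castSucc (θ.toOrderHom x) = Fin.succAbove j'.succ (θ'.toOrderHom x) at h1
    rw [hx, Fin.succAbove_of_le_castSucc _ _ (Fin.castSucc_le_castSucc_iff.2 hij')] at h1
    exact Fin.succAbove_ne _ _ h1.symm
  obtain ⟨ρ, rfl⟩ := SimplexCategory.eq_comp_δ_of_not_surjective' θ j' hns
  obtain rfl : θ' = ρ ≫ SimplexCategory.δ i' := by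
    rw [← cancel_mono (SimplexCategory.δ j'.succ), ← h, Category.assoc, Category.assoc,
      SimplexCategory.δ_comp_δ hij']
  rw [act_comp, act_comp]
  exact congrArg (act ρ) (hy i' j' hij').symm

include hy in
lemma act_eq_of_comp_eq {a : SimplexCategory} {i j : Fin (m + 3)} (θ θ' : a ⟶ ⦋m + 1⦌)
    (h : θ ≫ SimplexCategory.δ i = θ' ≫ SimplexCategory.δ j) :
    act θ (y i) = act θ' (y j) := by
  rcases lt_trichotomy i j with hij | rfl | hij
  · exact act_eq_of_lt y hy hij θ θ' h
  · rw [(cancel_mono (SimplexCategory.δ i)).1 h]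
  · exact (act_eq_of_lt y hy hij θ' θ h.symm).symm

include hy in
lemma famVal_eq {a : SimplexCategory} (θ : a ⟶ ⦋m + 2⦌) (hθ : ¬ Function.Surjective θ.toOrderHom)
    (i : Fin (m + 3)) (θ' : a ⟶ ⦋m + 1⦌) (h : θ = θ' ≫ SimplexCategory.δ i) :
    famVal y θ hθ = act θ' (y i) :=
  act_eq_of_comp_eq y hy _ _
    ((SimplexCategory.eq_comp_δ_of_not_surjective θ hθ).choose_spec.choose_spec.symm.trans h)

include hy in
lemma famVal_comp {a b : SimplexCategory} (ψ : b ⟶ a) (θ : a ⟶ ⦋m + 2⦌)
    (hθ : ¬ Function.Surjective θ.toOrderHom) (hθ' : ¬ Function.Surjective (ψ ≫ θ).toOrderHom) :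
    famVal y (ψ ≫ θ) hθ' = act ψ (famVal y θ hθ) := by
  obtain ⟨i, θ', h⟩ := SimplexCategory.eq_comp_δ_of_not_surjective θ hθ
  rw [famVal_eq y hy θ hθ i θ' h, ← act_comp]
  exact famVal_eq y hy _ _ i _ (by rw [h, Category.assoc])

end Family

lemma not_surjective_of_len_le {k : SimplexCategory} {n : ℕ} (hk : k.len ≤ n) (θ : k ⟶ ⦋n + 1⦌) :
    ¬ Function.Surjective θ.toOrderHom := fun h => by
  have := Fintype.card_le_of_surjective _ h
  simp only [Fintype.card_fin, SimplexCategory.len_mk] at this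
  omega

variable (K : SimplicialObject (FormalCoproduct.{u} C))

/-- The simplicial formal coproduct represented by an object and a simplex. -/
def repr (U : C) (n : ℕ) : SimplicialObject (FormalCoproduct.{u} C) where
  obj k := ⟨ULift.{u} (k.unop ⟶ ⦋n⦌), fun _ => U⟩
  map ψ := ⟨fun a => ⟨ψ.unop ≫ a.down⟩, fun _ => 𝟙 U⟩
  map_id k := FormalCoproduct.hom_ext (funext fun a => ULift.ext _ _ (Category.id_comp _))
    fun i => by simp
  map_comp ψ ψ' := FormalCoproduct.hom_ext (funext fun a => ULift.ext _ _ (Category.assoc _ _ _))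
    fun i => by simp

/-- The summand at a map of simplices. -/
def reprIncl (U : C) (n : ℕ) {k : SimplexCategoryᵒᵖ} (θ : k.unop ⟶ ⦋n⦌) :
    (FormalCoproduct.incl C).obj U ⟶ (repr U n).obj k :=
  FormalCoproduct.Hom.fromIncl ⟨θ⟩ (𝟙 U)

lemma incl_hom_ext {X : FormalCoproduct.{u} C} {n : ℕ} {U : C} {k : SimplexCategoryᵒᵖ}
    {α β : (repr U n).obj k ⟶ X} (h : ∀ θ, reprIncl U n θ ≫ α = reprIncl U n θ ≫ β) : α = β := by
  refine FormalCoproduct.hom_ext (funext fun a => ?_) fun a => ?_
  · exact congrFun (congrArg (fun t => t.f) (h a.down)) PUnit.unit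
  · obtain ⟨h₁, h₂⟩ := (FormalCoproduct.hom_ext_iff' _ _).1 (h a.down) PUnit.unit
    have h₃ : (𝟙 U ≫ α.φ a) ≫ eqToHom (congrArg X.obj h₁) = 𝟙 U ≫ β.φ a := h₂
    rw [Category.id_comp, Category.id_comp] at h₃
    exact h₃

variable {J : GrothendieckTopology C}
  [∀ (n : ℕ) (F : (SimplexCategory.Truncated n)ᵒᵖ ⥤ Limits.FormalCoproduct.{u} C),
    (SimplexCategory.Truncated.inclusion n).op.HasRightKanExtension F]

/-- A compatible family on the simplices of dimension at most `n` of the standard `(n + 1)`-simplex is locally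
filled where the comparison with the coskeleton is locally surjective. -/
theorem exists_fill_of_family (n : ℕ)
    (hK : Presheaf.IsLocallySurjective J (FormalCoproduct.yoneda.map
      (((SimplicialObject.coskAdj n).unit.app K).app (op ⦋n + 1⦌))))
    (U : C) (fam : ∀ {k : SimplexCategory}, k.len ≤ n → (k ⟶ ⦋n + 1⦌) → ((FormalCoproduct.incl C).obj U ⟶ K.obj (op k)))
    (hfam : ∀ {k l : SimplexCategory} (hk : k.len ≤ n) (hl : l.len ≤ n) (ψ : l ⟶ k) (θ : k ⟶ ⦋n + 1⦌),
      fam hl (ψ ≫ θ) = fam hk θ ≫ K.map ψ.op) :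
    ∃ S ∈ J U, ∀ ⦃V : C⦄ (g : V ⟶ U), S g →
      ∃ x : Sx (psh K) (n + 1) V, ∀ i : Fin (n + 2),
        secHom (K.obj (op ⦋n⦌)) V (face (psh K) i x) =
          (FormalCoproduct.incl C).map g ≫ fam (k := ⦋n⦌) le_rfl (SimplexCategory.δ i) := by
  let adj := SimplicialObject.coskAdj (C := FormalCoproduct.{u} C) n
  let μ : (SimplicialObject.truncation n).obj (repr U (n + 1)) ⟶ (SimplicialObject.truncation n).obj K :=
    { app := fun k =>
        { f := fun a => (fam k.unop.property a.down).f PUnit.unit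
          φ := fun a => (fam k.unop.property a.down).φ PUnit.unit }
      naturality := fun k l ψ => by
        refine incl_hom_ext (k := op k.unop.obj) fun θ => ?_
        have h := hfam k.unop.property l.unop.property ψ.unop.hom θ
        rw [← FormalCoproduct.Hom.fromIncl_asSigma (fam l.unop.property (ψ.unop.hom ≫ θ)),
          ← FormalCoproduct.Hom.fromIncl_asSigma (fam k.unop.property θ)] at h
        refine Eq.trans ?_ (Eq.trans h ?_)
        · refine FormalCoproduct.hom_ext rfl fun i => ?_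
          simp [reprIncl, FormalCoproduct.Hom.asSigma, SimplicialObject.truncation, repr]
          exact Category.id_comp _
        · refine FormalCoproduct.hom_ext rfl fun i => ?_
          simp [reprIncl, FormalCoproduct.Hom.asSigma, SimplicialObject.truncation, repr]
          exact (Category.id_comp _).symm }
  let μ' : repr U (n + 1) ⟶ (SimplicialObject.Truncated.cosk n).obj ((SimplicialObject.truncation n).obj K) :=
    adj.homEquiv _ _ μ
  let a := reprIncl U (n + 1) (k := op ⦋n + 1⦌) (𝟙 _) ≫ μ'.app (op ⦋n + 1⦌)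
  let z := (secHom _ U).symm a
  refine ⟨Presheaf.imageSieve (FormalCoproduct.yoneda.map
      (((SimplicialObject.coskAdj n).unit.app K).app (op ⦋n + 1⦌))) z, Presheaf.imageSieve_mem J (U := op U) (FormalCoproduct.yoneda.map
      (((SimplicialObject.coskAdj n).unit.app K).app (op ⦋n + 1⦌))) z, fun V g hg => ?_⟩
  obtain ⟨x, hx⟩ := hg
  refine ⟨x, fun i => ?_⟩
  have hx' := congrArg (secHom _ V) hx
  rw [secHom_map, secHom_rst] at hx'
  erw [Equiv.apply_symm_apply] at hx'
  refine (secHom_map (K.map (SimplexCategory.δ i).op) x).trans ?_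
  let k₁ : (SimplexCategory.Truncated n)ᵒᵖ := op ⟨⦋n⦌, le_rfl⟩
  have tri : (adj.unit.app K).app (op ⦋n⦌) ≫
      (adj.counit.app ((SimplicialObject.truncation n).obj K)).app k₁ = 𝟙 _ :=
    congrArg (fun t => t.app k₁) (adj.left_triangle_components K)
  have hμ : μ'.app (op ⦋n⦌) ≫ (adj.counit.app ((SimplicialObject.truncation n).obj K)).app k₁ =
      μ.app k₁ :=
    congrArg (fun t => t.app k₁) (((adj.homEquiv_counit _ _ μ').symm).trans ((adj.homEquiv _ _).symm_apply_apply μ))
  have hy' : reprIncl U (n + 1) (k := op ⦋n⦌) (SimplexCategory.δ i) ≫ μ.app k₁ =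
      fam (k := ⦋n⦌) le_rfl (SimplexCategory.δ i) := by
    rw [← FormalCoproduct.Hom.fromIncl_asSigma (fam (k := ⦋n⦌) le_rfl (SimplexCategory.δ i))]
    refine FormalCoproduct.hom_ext rfl fun j => ?_
    simp [reprIncl, FormalCoproduct.Hom.asSigma, μ, k₁]
    exact Category.id_comp _
  have hr : reprIncl U (n + 1) (k := op ⦋n + 1⦌) (𝟙 _) ≫ (repr U (n + 1)).map (SimplexCategory.δ i).op =
      reprIncl U (n + 1) (k := op ⦋n⦌) (SimplexCategory.δ i) :=
    FormalCoproduct.hom_ext (funext fun _ => ULift.ext _ _ (Category.comp_id _)) fun j => by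
      simp [reprIncl, repr]
  calc secHom _ V x ≫ K.map (SimplexCategory.δ i).op
      = secHom _ V x ≫ K.map (SimplexCategory.δ i).op ≫ (adj.unit.app K).app (op ⦋n⦌) ≫
          (adj.counit.app ((SimplicialObject.truncation n).obj K)).app k₁ :=
        ((congrArg (fun t => secHom _ V x ≫ K.map (SimplexCategory.δ i).op ≫ t) tri).trans
          (congrArg (secHom _ V x ≫ ·) (Category.comp_id (K.map (SimplexCategory.δ i).op)))).symm
    _ = (secHom _ V x ≫ (adj.unit.app K).app (op ⦋n + 1⦌)) ≫
          ((SimplicialObject.Truncated.cosk n).obj ((SimplicialObject.truncation n).obj K)).map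
            (SimplexCategory.δ i).op ≫ (adj.counit.app ((SimplicialObject.truncation n).obj K)).app k₁ := by
        erw [reassoc_of% ((adj.unit.app K).naturality (SimplexCategory.δ i).op)]
        rw [Category.assoc]
    _ = (FormalCoproduct.incl C).map g ≫ fam (k := ⦋n⦌) le_rfl (SimplexCategory.δ i) := by
        rw [hx', ← hy', ← hr, ← hμ]
        simp only [a, Category.assoc]
        erw [← reassoc_of% (μ'.naturality (SimplexCategory.δ i).op)]

/-- Spheres are filled where the comparison with the coskeleton is locally surjective. -/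
theorem exists_fill (m : ℕ)
    (hK : Presheaf.IsLocallySurjective J (FormalCoproduct.yoneda.map
      (((SimplicialObject.coskAdj (m + 1)).unit.app K).app (op ⦋m + 2⦌))))
    (U : C) (y : Fin (m + 3) → Sx (psh K) (m + 1) U)
    (hy : ∀ i j : Fin (m + 2), i ≤ j → face (psh K) i (y j.succ) = face (psh K) j (y i.castSucc)) :
    ∃ S ∈ J U, ∀ ⦃V : C⦄ (g : V ⟶ U), S g →
      ∃ x : Sx (psh K) (m + 2) V, ∀ i, face (psh K) i x = rst (psh K) g (y i) := by
  obtain ⟨S, hS, h⟩ := exists_fill_of_family K (m + 1) hK U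
    (fun {k} hk θ => secHom (K.obj (op k)) U (famVal y θ (not_surjective_of_len_le hk θ)))
    (fun {k l} hk hl ψ θ => by
      rw [famVal_comp y hy ψ θ (not_surjective_of_len_le hk θ)]
      exact secHom_map (K.map ψ.op) _)
  refine ⟨S, hS, fun V g hg => ?_⟩
  obtain ⟨x, hx⟩ := h g hg
  refine ⟨x, fun i => (secHom (K.obj (op ⦋m + 1⦌)) V).injective ((hx i).trans ?_)⟩
  refine Eq.trans ?_ (secHom_rst (K.obj (op ⦋m + 1⦌)) g (y i)).symm
  exact congrArg (fun t => (FormalCoproduct.incl C).map g ≫ secHom (K.obj (op ⦋m + 1⦌)) U t)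
    ((famVal_eq y hy _ _ i (𝟙 _) (Category.id_comp _).symm).trans (act_id _))

end GrothLib.Hyper19
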